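import Cfsg.Agent.OrdDiv.Main
import Cfsg.Agent.S0813
import Cfsg.Agent.S0814
import Cfsg.Agent.S0815
import Cfsg.Agent.S0816
import Cfsg.Agent.S0817
import Cfsg.Agent.S0818
import Cfsg.Agent.S2121
import Cfsg.Agent.S2122
import Cfsg.Agent.S2129
import Cfsg.Agent.S2130
import Cfsg.Agent.S0254
import Cfsg.Agent.Mrg.Omega.ML.RowTits
import Cfsg.Prelude.Def_AlmostLie

/-!
# Simple groups of Lie type in characteristic `p` of rank at least two: orders and automorphisms (helper828)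

* `chk p k g` : the name `g` is in characteristic `p` and `p ^ k` divides `c * |g|`, where `c` is the order of the outer
  automorphism group up to factors prime to `p`;
* `exists_chk` : `L` simple of Lie type in characteristic `p` and Lie rank at least two, `|L| ∣ N`, `p ^ k ∣ |Aut(L)|`,
  `p ^ k` the exact power of `p` in `N`: `L` is a group `g` of the list `cands l N` with `chk p k g`.
-/

set_option autoImplicit false

namespace Cfsg.Agent.H828.AutN

open Cfsg Cfsg.Agent.OrdDiv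

universe u

/-- `q = p ^ (f + 1)` with `f < k` and `p ^ k ∣ c (f + 1) * o` -/
def qf (p k q : ℕ) (c : ℕ → ℕ) (o : ℕ) : Bool :=
  (List.range k).any fun f => Nat.beq (p ^ (f + 1)) q && Nat.beq ((c (f + 1) * o) % p ^ k) 0

/-- the check for the name `g` -/
def chk (p k : ℕ) : Grp → Bool
  | .alt n => Nat.beq p 2 && Nat.beq n 6 && Nat.beq (1440 % 2 ^ k) 0
  | .psl n q => Nat.ble 3 n && qf p k q (fun f => 2 * f) (ordN (.psl n q))
  | .psp m q => qf p k q (fun f => (if m = 2 ∧ p = 2 then 2 else 1) * f) (ordN (.psp m q))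
  | .psu n q => (Nat.ble 4 n && qf p k q (fun f => 2 * f) (ordN (.psu n q))) ||
      (Nat.beq p 2 && Nat.beq n 3 && Nat.beq q 3 && Nat.beq ((2 * ordN (.psu n q)) % 2 ^ k) 0)
  | .oodd m q => qf p k q (fun f => f) (ordN (.oodd m q))
  | .oplus m q => qf p k q (fun f => (if m = 4 then 3 else 1) * (if p = 2 then 2 else 1) * f) (ordN (.oplus m q))
  | .ominus m q => qf p k q (fun f => (if p = 2 then 2 else 1) * f) (ordN (.ominus m q))
  | .g2 q => qf p k q (fun f => f) (ordN (.g2 q))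
  | .f4 q => qf p k q (fun f => Nat.gcd 2 p * f) (ordN (.f4 q))
  | .e6 q => qf p k q (fun _ => 0) 0
  | .e7 q => qf p k q (fun _ => 0) 0
  | .e8 q => qf p k q (fun _ => 0) 0
  | .te6 q => qf p k q (fun f => 2 * f) (ordN (.te6 q))
  | .td4 q => qf p k q (fun f => 3 * f) (ordN (.td4 q))
  | .tf4 q => qf p k q (fun _ => 0) 0
  | .tits => Nat.beq p 2 && Nat.beq ((2 * 17971200) % 2 ^ k) 0
  | _ => false

/-! ### the exponent -/

theorem exp_le {l : List (ℕ × ℕ)} {N p k : ℕ} (hv : valid l N = true) (hp : p.Prime) (_ : (p, k) ∈ l)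
    (hk' : ¬ p ^ (k + 1) ∣ N) {D : Fam} {n f : ℕ} (h : (n, p ^ f) ∈ cand l N D) (hf : 1 ≤ f) : f ≤ k := by
  unfold cand at h
  have h1 := (List.mem_filter.1 h).1
  unfold box at h1
  rw [List.mem_flatMap] at h1
  obtain ⟨x, hx, h2⟩ := h1
  rw [List.mem_flatMap] at h2
  obtain ⟨j, hj, h3⟩ := h2
  rw [List.mem_map] at h3
  obtain ⟨n', -, h4⟩ := h3
  have h5 : x.1 ^ (j + 1) = p ^ f := (Prod.ext_iff.1 h4).2
  have hxp : (x.1).Prime := valid_prime hv x hx
  have h6 : p ∣ x.1 := by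
    apply hp.dvd_of_dvd_pow (n := j + 1)
    rw [h5]
    exact dvd_pow_self p (by omega)
  have h7 : p = x.1 := (Nat.prime_dvd_prime_iff_eq hp hxp).1 h6
  rw [← h7] at h5
  have h8 : j + 1 = f := Nat.pow_right_injective hp.two_le h5
  have hj' := List.mem_range.1 hj
  have h9 : p ^ x.2 ∣ N := by
    rw [← valid_prod hv, h7]
    unfold prodl
    exact List.dvd_prod (List.mem_map.2 ⟨x, hx, rfl⟩)
  by_contra hlt
  exact hk' ((pow_dvd_pow p (by omega)).trans h9)

theorem qf_of {p k q f : ℕ} {c : ℕ → ℕ} {o : ℕ} (hq : q = p ^ f) (hf : 1 ≤ f) (hfk : f ≤ k) (hd : p ^ k ∣ c f * o) :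
    qf p k q c o = true := by
  unfold qf
  rw [List.any_eq_true]
  refine ⟨f - 1, List.mem_range.2 (by omega), ?_⟩
  rw [Nat.sub_add_cancel hf, Bool.and_eq_true, Nat.beq_eq, Nat.beq_eq]
  exact ⟨hq.symm, Nat.mod_eq_zero_of_dvd hd⟩

/-- a finite field of characteristic `p` -/
theorem exists_exp {F : Type} [Field F] [Fintype F] (p : ℕ) [Fact p.Prime] [CharP F p] :
    ∃ f, 1 ≤ f ∧ Fintype.card F = p ^ f := by
  obtain ⟨n, -, h⟩ := FiniteField.card F p
  exact ⟨n, n.2, h⟩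

theorem exists_exp_pow {F : Type} [Field F] [Fintype F] (p : ℕ) [hp : Fact p.Prime] [CharP F p] {q j : ℕ} (hj : 1 ≤ j)
    (hF : Fintype.card F = q ^ j) : ∃ f, 1 ≤ f ∧ q = p ^ f := by
  obtain ⟨n, hn, h⟩ := exists_exp (F := F) p
  rw [hF] at h
  have hq : q ∣ p ^ n := by
    rw [← h]
    exact dvd_pow_self q (by omega)
  obtain ⟨f, -, hf⟩ := (Nat.dvd_prime_pow hp.out).1 hq
  refine ⟨f, ?_, hf⟩
  by_contra h0
  have h1 : f = 0 := by omega
  rw [hf, h1, pow_zero, one_pow] at h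
  exact (Nat.one_lt_pow (by omega) hp.out.one_lt).ne h

theorem dvd_of_coprime_mul {p k a b : ℕ} (hc : (p ^ k).Coprime a) (h : p ^ k ∣ a * b) : p ^ k ∣ b :=
  hc.dvd_of_dvd_mul_left h

theorem card_mulAut_congr {G H : Type*} [Group G] [Group H] (e : G ≃* H) :
    Nat.card (MulAut G) = Nat.card (MulAut H) :=
  Nat.card_congr (MulAut.congr e).toEquiv

/-! ### `|Aut| = |Out| |Inn|` -/

theorem card_mulAut_of_out {G : Type u} [Group G] (hc : Subgroup.center G = ⊥) {c : ℕ}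
    (h : Nat.card (Out G) = c) : Nat.card (MulAut G) = c * Nat.card G := by
  have h1 : Nat.card (Inn G) = Nat.card G := by
    have h2 : Function.Injective (MulAut.conj : G →* MulAut G) := by
      rw [← MonoidHom.ker_eq_bot_iff, ← hc]
      ext x
      rw [MonoidHom.mem_ker, Subgroup.mem_center_iff]
      constructor
      · intro h3 y
        have := DFunLike.congr_fun h3 y
        rw [MulAut.conj_apply, MulAut.one_apply] at this
        calc y * x = (x * y * x⁻¹) * x := by rw [this]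
          _ = x * y := by group
      · intro h3
        ext y
        rw [MulAut.conj_apply, MulAut.one_apply, ← h3 y]
        group
    exact (Nat.card_congr (MonoidHom.ofInjective h2).toEquiv).symm
  rw [← h, ← h1]
  exact Subgroup.card_eq_card_quotient_mul_card_subgroup _

theorem center_eq_bot {L : Type u} [Group L] [Finite L] [IsSimpleGroup L] {p : ℕ} (hp : p.Prime)
    (h : p ^ 2 ∣ Nat.card L) : Subgroup.center L = ⊥ := by
  rcases IsSimpleGroup.eq_bot_or_eq_top_of_normal (Subgroup.center L) inferInstance with h1 | h1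
  · exact h1
  · exfalso
    have h2 : ∀ a b : L, a * b = b * a := fun a b => by
      have : b ∈ Subgroup.center L := by rw [h1]; trivial
      exact Subgroup.mem_center_iff.1 this a
    let _ : CommGroup L := { (inferInstance : Group L) with mul_comm := h2 }
    have h3 : (Nat.card L).Prime := IsSimpleGroup.prime_card
    have h4 : p ∣ Nat.card L := (dvd_pow_self p two_ne_zero).trans h
    have h5 := (Nat.prime_dvd_prime_iff_eq hp h3).1 h4
    rw [← h5] at h
    have h6 := Nat.le_of_dvd hp.pos h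
    have := hp.two_le
    nlinarith

theorem center_bot_congr {L : Type*} [Group L] {G : Type*} [Group G] (e : L ≃* G)
    (h : Subgroup.center L = ⊥) : Subgroup.center G = ⊥ := by
  rw [eq_bot_iff]
  intro x hx
  have h1 : e.symm x ∈ Subgroup.center L := by
    rw [Subgroup.mem_center_iff] at hx ⊢
    intro y
    apply e.injective
    have := hx (e y)
    simpa using this
  rw [h, Subgroup.mem_bot] at h1
  rw [Subgroup.mem_bot]
  simpa using congrArg e h1

/-! ### the families -/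

section fam

variable {L : Type u} [Group L] {l : List (ℕ × ℕ)} {N p k : ℕ} [hp : Fact p.Prime]

/-- the output -/
def Out1 (l : List (ℕ × ℕ)) (N p k : ℕ) (L : Type u) [Group L] : Prop :=
  ∃ g ∈ cands l N, chk p k g = true ∧ Real g L ∧ Nat.card L = ordN g

theorem coprime_gcd_sub {n q f : ℕ} (hq : q = p ^ f) (hf : 1 ≤ f) : (p ^ k).Coprime (Nat.gcd n (q - 1)) := by
  apply Nat.Coprime.pow_left
  have h1 : (q - 1).Coprime q := by
    have := cop_sub (q := q) (k := 1) (by rw [hq]; exact Nat.one_le_pow _ _ hp.out.pos) le_rfl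
    rwa [pow_one] at this
  have h2 : (q - 1).Coprime p := Nat.Coprime.coprime_dvd_right (by rw [hq]; exact dvd_pow_self p (by omega)) h1
  exact (Nat.Coprime.coprime_dvd_left (Nat.gcd_dvd_right _ _) h2).symm

theorem coprime_gcd_add {n q f : ℕ} (hq : q = p ^ f) (hf : 1 ≤ f) : (p ^ k).Coprime (Nat.gcd n (q + 1)) := by
  apply Nat.Coprime.pow_left
  have h1 : (q + 1).Coprime q := by
    have := cop_add (q := q) (k := 1) le_rfl
    rwa [pow_one] at this
  have h2 : (q + 1).Coprime p := Nat.Coprime.coprime_dvd_right (by rw [hq]; exact dvd_pow_self p (by omega)) h1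
  exact (Nat.Coprime.coprime_dvd_left (Nat.gcd_dvd_right _ _) h2).symm

theorem coprime_eight {a b c : ℕ} (hp2 : p ≠ 2) (ha : ∃ j, a = 2 ^ j) (h : p ^ k ∣ a * b * c) : p ^ k ∣ b * c := by
  obtain ⟨j, rfl⟩ := ha
  rw [mul_assoc] at h
  refine dvd_of_coprime_mul ?_ h
  exact Nat.Coprime.pow _ _ ((Nat.coprime_primes hp.out Nat.prime_two).2 hp2)

variable (hv : valid l N = true) (hk : (p, k) ∈ l) (hd : Nat.card L ∣ N) (hP : p ^ k ∣ Nat.card (MulAut L))
include hv hk hd hP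

theorem psl_out {F : Type} [Field F] [Fintype F] [CharP F p] {n : ℕ} (hn : 3 ≤ n)
    (e : L ≃* Matrix.ProjectiveSpecialLinearGroup (Fin n) F) : Out1 l N p k L := by
  have hk' := valid_exact hv _ hk
  obtain ⟨f, hf, hF⟩ := exists_exp (F := F) p
  rw [Nat.card_congr e.toEquiv] at hd
  rw [card_mulAut_congr e] at hP
  obtain ⟨h1, h2⟩ := psl_mem hv (F := F) (n := n) (by omega) (by omega) hd
  refine ⟨.psl n (Fintype.card F), mem_cands 1 (List.mem_map.2 ⟨_, h1, rfl⟩), ?_,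
    ⟨F, inferInstance, inferInstance, rfl, ⟨e⟩⟩, (Nat.card_congr e.toEquiv).trans h2⟩
  change (Nat.ble 3 n && qf p k (Fintype.card F) (fun f => 2 * f) (ordN (.psl n (Fintype.card F)))) = true
  rw [Bool.and_eq_true, Nat.ble_eq]
  refine ⟨hn, qf_of hF hf (exp_le hv hp.out hk hk' (by rw [← hF]; exact h1) hf) ?_⟩
  rw [S0813.result p f hf hF n (by omega) (by omega), if_neg (by omega)] at hP
  have h3 : Nat.card (Matrix.ProjGenLinGroup (Fin n) F) =
      Nat.gcd n (Fintype.card F - 1) * Nat.card (Matrix.ProjectiveSpecialLinearGroup (Fin n) F) := by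
    have h4 := S0243.result (F := F) rfl n (by omega)
    have h5 : Nonempty (Fin n) := ⟨⟨0, by omega⟩⟩
    have h6 := ClassicalGeometry.PSL2Basic.card_PGL_mul (n := Fin n) (F := F)
    have h7 : Nat.card (GL (Fin n) F) = ∏ i : Fin n, (Fintype.card F ^ n - Fintype.card F ^ (i : ℕ)) := by
      rw [Matrix.card_GL_field]
    have h8 : 0 < Fintype.card F - 1 := by
      have := Fintype.one_lt_card (α := F)
      omega
    apply Nat.eq_of_mul_eq_mul_right h8
    rw [h6, h7, ← h4]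
    ring
  rw [h3] at hP
  rw [← h2]
  have h9 : 2 * f * (Nat.gcd n (Fintype.card F - 1) * Nat.card (Matrix.ProjectiveSpecialLinearGroup (Fin n) F)) =
      Nat.gcd n (Fintype.card F - 1) * (2 * f * Nat.card (Matrix.ProjectiveSpecialLinearGroup (Fin n) F)) := by ring
  rw [h9] at hP
  exact dvd_of_coprime_mul (coprime_gcd_sub hF hf) hP

theorem psp_out {F : Type} [Field F] [Fintype F] [CharP F p] {m : ℕ} (hm : 2 ≤ m) (hm2 : m = 2 → 3 ≤ Fintype.card F)
    (e : L ≃* PSp m F) : Out1 l N p k L := by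
  have hk' := valid_exact hv _ hk
  obtain ⟨f, hf, hF⟩ := exists_exp (F := F) p
  rw [Nat.card_congr e.toEquiv] at hd
  rw [card_mulAut_congr e] at hP
  obtain ⟨h1, h2⟩ := psp_mem hv (F := F) hm hm2 hd
  refine ⟨.psp m (Fintype.card F), mem_cands 2 (List.mem_map.2 ⟨_, h1, rfl⟩), ?_,
    ⟨F, inferInstance, inferInstance, rfl, ⟨e⟩⟩, (Nat.card_congr e.toEquiv).trans h2⟩
  refine qf_of hF hf (exp_le hv hp.out hk hk' (by rw [← hF]; exact h1) hf) ?_
  rw [S0814.result p f hf hF m hm (by rw [← hF]; exact hm2), h2] at hP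
  have h9 : (if m = 2 ∧ p = 2 then 2 else 1) * Nat.gcd 2 (p ^ f - 1) * f * ordN (.psp m (Fintype.card F)) =
      Nat.gcd 2 (p ^ f - 1) * ((if m = 2 ∧ p = 2 then 2 else 1) * f * ordN (.psp m (Fintype.card F))) := by ring
  rw [h9] at hP
  exact dvd_of_coprime_mul (coprime_gcd_sub rfl hf) hP

theorem psu_out {F : Type} [Field F] [Fintype F] [CharP F p] {n q : ℕ} (hF : Fintype.card F = q ^ 2) (hn : 4 ≤ n)
    (e : L ≃* PSU n F q) : Out1 l N p k L := by
  have hk' := valid_exact hv _ hk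
  obtain ⟨f, hf, hq⟩ := exists_exp_pow (F := F) p (by norm_num) hF
  rw [Nat.card_congr e.toEquiv] at hd
  rw [card_mulAut_congr e] at hP
  obtain ⟨h1, h2⟩ := psu_mem hv hF (n := n) (by omega) (by omega) hd
  refine ⟨.psu n q, mem_cands 3 (List.mem_map.2 ⟨_, h1, rfl⟩), ?_,
    ⟨F, inferInstance, inferInstance, hF, ⟨e⟩⟩, (Nat.card_congr e.toEquiv).trans h2⟩
  change ((Nat.ble 4 n && qf p k q (fun f => 2 * f) (ordN (.psu n q))) || _) = true
  rw [Bool.or_eq_true, Bool.and_eq_true, Nat.ble_eq]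
  refine Or.inl ⟨hn, qf_of hq hf (exp_le hv hp.out hk hk' (by rw [← hq]; exact h1) hf) ?_⟩
  rw [S0815.result p f hf hq hF n (by omega) (by omega), h2] at hP
  have h9 : Nat.gcd n (q + 1) * (2 * f) * ordN (.psu n q) =
      Nat.gcd n (q + 1) * ((2 * f) * ordN (.psu n q)) := by ring
  rw [h9] at hP
  exact dvd_of_coprime_mul (coprime_gcd_add hq hf) hP

theorem oodd_out {F : Type} [Field F] [Fintype F] [CharP F p] {m : ℕ} (hm : 3 ≤ m) (ho : Odd (Fintype.card F))
    (e : L ≃* POmega F (quadFormOdd m F)) : Out1 l N p k L := by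
  have hk' := valid_exact hv _ hk
  obtain ⟨f, hf, hF⟩ := exists_exp (F := F) p
  rw [Nat.card_congr e.toEquiv] at hd
  rw [card_mulAut_congr e] at hP
  obtain ⟨h1, h2⟩ := oodd_mem hv (F := F) hm ho hd
  have hpo : Odd p := by
    rcases hp.out.eq_two_or_odd' with h | h
    · rw [hF, h] at ho
      exact absurd ho (by simp [Nat.not_odd_iff_even, Nat.even_pow, show f ≠ 0 by omega])
    · exact h
  refine ⟨.oodd m (Fintype.card F), mem_cands 4 (List.mem_map.2 ⟨_, h1, rfl⟩), ?_,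
    ⟨F, inferInstance, inferInstance, rfl, ⟨e⟩⟩, (Nat.card_congr e.toEquiv).trans h2⟩
  change qf p k (Fintype.card F) (fun f => f) (ordN (.oodd m (Fintype.card F))) = true
  refine qf_of hF hf (exp_le hv hp.out hk hk' (by rw [← hF]; exact h1) hf) ?_
  rw [S0816.result p f hf hF hpo m hm, h2, mul_assoc] at hP
  exact dvd_of_coprime_mul (Nat.Coprime.pow_left _ ((Nat.coprime_two_left).2 hpo).symm) hP

theorem oplus_out {F : Type} [Field F] [Fintype F] [CharP F p] {m : ℕ} (hm : 4 ≤ m)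
    (e : L ≃* POmega F (quadFormPlus m F)) : Out1 l N p k L := by
  have hk' := valid_exact hv _ hk
  obtain ⟨f, hf, hF⟩ := exists_exp (F := F) p
  rw [Nat.card_congr e.toEquiv] at hd
  rw [card_mulAut_congr e] at hP
  obtain ⟨h1, h2⟩ := oplus_mem hv (F := F) hm hd
  refine ⟨.oplus m (Fintype.card F), mem_cands 5 (List.mem_map.2 ⟨_, h1, rfl⟩), ?_,
    ⟨F, inferInstance, inferInstance, rfl, ⟨e⟩⟩, (Nat.card_congr e.toEquiv).trans h2⟩
  refine qf_of hF hf (exp_le hv hp.out hk hk' (by rw [← hF]; exact h1) hf) ?_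
  rw [S0817.result p f hf hF m hm, h2] at hP
  by_cases hp2 : p = 2
  · simp only [hp2, if_true] at hP ⊢
    exact hP
  · simp only [hp2, if_false] at hP ⊢
    have h9 : ∀ t : ℕ, (if m = 4 then 3 else 1) * t * f * ordN (.oplus m (Fintype.card F)) =
      t * ((if m = 4 then 3 else 1) * 1 * f) * ordN (.oplus m (Fintype.card F)) := fun t => by ring
    rw [h9] at hP
    refine coprime_eight hp2 ?_ hP
    split_ifs
    · exact ⟨3, rfl⟩
    · exact ⟨2, rfl⟩

theorem ominus_out {F : Type} [Field F] [Fintype F] [CharP F p] {m : ℕ} (hm : 4 ≤ m) {a b : F}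
    (hab : ∀ z₁ z₂ : F, z₁ ^ 2 + a * z₁ * z₂ + b * z₂ ^ 2 = 0 → z₁ = 0 ∧ z₂ = 0)
    (e : L ≃* POmega F (quadFormMinus (m - 1) F a b)) : Out1 l N p k L := by
  have hk' := valid_exact hv _ hk
  obtain ⟨f, hf, hF⟩ := exists_exp (F := F) p
  rw [Nat.card_congr e.toEquiv] at hd
  rw [card_mulAut_congr e] at hP
  obtain ⟨h1, h2⟩ := ominus_mem hv (F := F) hm hab hd
  refine ⟨.ominus m (Fintype.card F), mem_cands 6 (List.mem_map.2 ⟨_, h1, rfl⟩), ?_,
    ⟨F, inferInstance, inferInstance, a, b, rfl, hab, ⟨e⟩⟩, (Nat.card_congr e.toEquiv).trans h2⟩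
  refine qf_of hF hf (exp_le hv hp.out hk hk' (by rw [← hF]; exact h1) hf) ?_
  rw [S0818.result p f hf hF m hm a b hab, h2] at hP
  by_cases hp2 : p = 2
  · simp only [hp2, if_true] at hP ⊢
    exact hP
  · simp only [hp2, if_false, one_mul] at hP ⊢
    refine coprime_eight hp2 ?_ hP
    split_ifs
    · exact ⟨2, rfl⟩
    · exact ⟨3, rfl⟩

variable [Finite L] [IsSimpleGroup L] (T : OrderTable.{u})
include T

theorem g2_out {F : Type} [Field F] [Fintype F] [CharP F p] (hq : 3 ≤ Fintype.card F)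
    (e : L ≃* ↥(Lie.chevG2.group F)) : Out1 l N p k L := by
  have hk' := valid_exact hv _ hk
  obtain ⟨f, hf, hF⟩ := exists_exp (F := F) p
  have hc : Nat.card L = Fintype.card F ^ 6 * (Fintype.card F ^ 2 - 1) * (Fintype.card F ^ 6 - 1) := by
    rw [Nat.card_congr e.toEquiv, T.g2 F]
  obtain ⟨h1, h2⟩ : (0, Fintype.card F) ∈ cand l N fG2 ∧ _ :=
    one_mem hv (by norm_num) Fintype.isPrimePow_card_of_field (by rw [Nat.ble_eq]; exact hq)
      (by rw [hc]; ring) (Nat.coprime_one_left _) hd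
  refine ⟨.g2 (Fintype.card F), mem_cands 7 (List.mem_map.2 ⟨_, h1, rfl⟩), ?_,
    ⟨F, inferInstance, inferInstance, rfl, ⟨e⟩⟩, h2⟩
  change qf p k (Fintype.card F) (fun f => f) (ordN (.g2 (Fintype.card F))) = true
  refine qf_of hF hf (exp_le hv hp.out hk hk' (by rw [← hF]; exact h1) hf) ?_
  have hz : Subgroup.center L = ⊥ := center_eq_bot hp.out (by
    rw [hc, hF, mul_assoc]
    exact Dvd.dvd.mul_right (by rw [← pow_mul]; exact pow_dvd_pow p (by omega)) _)
  have hz' := center_bot_congr e hz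
  have h4 := card_mulAut_of_out hz' (S2121.result p f hF (by rw [← hF]; exact hq))
  rw [card_mulAut_congr e, h4, ← Nat.card_congr e.toEquiv, h2] at hP
  split_ifs at hP with h3
  · rw [mul_assoc] at hP
    refine dvd_of_coprime_mul ?_ hP
    rw [h3]
    exact Nat.Coprime.pow_left _ (by norm_num)
  · exact hP

theorem f4_out {F : Type} [Field F] [Fintype F] [CharP F p]
    (e : L ≃* ↥(Lie.chevF4.group F)) : Out1 l N p k L := by
  have hk' := valid_exact hv _ hk
  obtain ⟨f, hf, hF⟩ := exists_exp (F := F) p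
  have hc : Nat.card L = Fintype.card F ^ 24 * ((Fintype.card F ^ 2 - 1) * (Fintype.card F ^ 6 - 1) *
      (Fintype.card F ^ 8 - 1) * (Fintype.card F ^ 12 - 1)) := by
    rw [Nat.card_congr e.toEquiv, T.f4 F _ rfl]
    ring
  obtain ⟨h1, h2⟩ : (0, Fintype.card F) ∈ cand l N fF4 ∧ _ :=
    one_mem hv (by norm_num) Fintype.isPrimePow_card_of_field rfl
      (by rw [hc]; ring) (Nat.coprime_one_left _) hd
  refine ⟨.f4 (Fintype.card F), mem_cands 8 (List.mem_map.2 ⟨_, h1, rfl⟩), ?_,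
    ⟨F, inferInstance, inferInstance, rfl, ⟨e⟩⟩, h2⟩
  change qf p k (Fintype.card F) (fun f => Nat.gcd 2 p * f) (ordN (.f4 (Fintype.card F))) = true
  refine qf_of hF hf (exp_le hv hp.out hk hk' (by rw [← hF]; exact h1) hf) ?_
  have hz : Subgroup.center L = ⊥ := center_eq_bot hp.out (by
    rw [hc, hF]
    exact Dvd.dvd.mul_right (by rw [← pow_mul]; exact pow_dvd_pow p (by omega)) _)
  have hz' := center_bot_congr e hz
  have h4 := card_mulAut_of_out hz' (S2122.result p f hF)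
  rw [card_mulAut_congr e, h4, ← Nat.card_congr e.toEquiv, h2] at hP
  exact hP

theorem te6_out {F : Type} [Field F] [Fintype F] [CharP F p] {q : ℕ} (hq : IsPrimePow q)
    (hF : Fintype.card F = q ^ 2)
    (e : L ≃* ↥(Lie.twistedE6 F q)) : Out1 l N p k L := by
  have hk' := valid_exact hv _ hk
  obtain ⟨f, hf, hqf⟩ := exists_exp_pow (F := F) p (by norm_num) hF
  have hc : Nat.gcd 3 (q + 1) * Nat.card L =
      q ^ 36 * ((q ^ 2 - 1) * (q ^ 5 + 1) * (q ^ 6 - 1) * (q ^ 8 - 1) * (q ^ 9 + 1) * (q ^ 12 - 1)) := by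
    rw [Nat.card_congr e.toEquiv, T.te6 F q hq hF]
    ring
  have h0 := cop_add (q := q) (k := 1) le_rfl
  rw [pow_one] at h0
  obtain ⟨h1, h2⟩ : (0, q) ∈ cand l N fTE6 ∧ _ :=
    one_mem hv (by norm_num) hq rfl
      (by rw [hc]) (Nat.Coprime.coprime_dvd_left (Nat.gcd_dvd_right _ _) h0) hd
  refine ⟨.te6 q, mem_cands 12 (List.mem_map.2 ⟨_, h1, rfl⟩), ?_,
    ⟨F, inferInstance, inferInstance, hF, ⟨e⟩⟩, h2⟩
  change qf p k q (fun f => 2 * f) (ordN (.te6 q)) = true
  refine qf_of hqf hf (exp_le hv hp.out hk hk' (by rw [← hqf]; exact h1) hf) ?_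
  have hz : Subgroup.center L = ⊥ := center_eq_bot hp.out (by
    refine dvd_of_coprime_mul (a := Nat.gcd 3 (q + 1)) (coprime_gcd_add hqf hf) ?_
    rw [hc, hqf]
    exact Dvd.dvd.mul_right (by rw [← pow_mul]; exact pow_dvd_pow p (by omega)) _)
  have hz' := center_bot_congr e hz
  have h4 := S2130.result (K := F) p f (by rw [hF, hqf, ← pow_mul, mul_comm]) hf
  rw [← hqf] at h4
  have h5 := card_mulAut_of_out hz' h4
  rw [card_mulAut_congr e, h5, ← Nat.card_congr e.toEquiv, h2] at hP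
  have h9 : ∀ a b c : ℕ, 2 * a * b * c = a * (2 * b * c) := fun a b c => by ring
  rw [h9] at hP
  exact dvd_of_coprime_mul (coprime_gcd_add hqf hf) hP

theorem td4_out {F : Type} [Field F] [Fintype F] [CharP F p] {q : ℕ} (hq : IsPrimePow q)
    (hF : Fintype.card F = q ^ 3)
    (e : L ≃* ↥(Lie.twistedD4 F q)) : Out1 l N p k L := by
  have hk' := valid_exact hv _ hk
  obtain ⟨f, hf, hqf⟩ := exists_exp_pow (F := F) p (by norm_num) hF
  have hc : Nat.card L = q ^ 12 * ((q ^ 2 - 1) * (q ^ 6 - 1) * (q ^ 8 + q ^ 4 + 1)) := by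
    rw [Nat.card_congr e.toEquiv, T.td4 F q hq hF]
    ring
  obtain ⟨h1, h2⟩ : (0, q) ∈ cand l N fTD4 ∧ _ :=
    one_mem hv (by norm_num) hq rfl (by rw [hc]; ring) (Nat.coprime_one_left _) hd
  refine ⟨.td4 q, mem_cands 13 (List.mem_map.2 ⟨_, h1, rfl⟩), ?_,
    ⟨F, inferInstance, inferInstance, hF, ⟨e⟩⟩, h2⟩
  change qf p k q (fun f => 3 * f) (ordN (.td4 q)) = true
  refine qf_of hqf hf (exp_le hv hp.out hk hk' (by rw [← hqf]; exact h1) hf) ?_
  have hz : Subgroup.center L = ⊥ := center_eq_bot hp.out (by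
    rw [hc, hqf]
    exact Dvd.dvd.mul_right (by rw [← pow_mul]; exact pow_dvd_pow p (by omega)) _)
  have hz' := center_bot_congr e hz
  have h4 := S2129.result (K := F) p f (by rw [hF, hqf, ← pow_mul, mul_comm]) hf
  rw [← hqf] at h4
  have h5 := card_mulAut_of_out hz' h4
  rw [card_mulAut_congr e, h5, ← Nat.card_congr e.toEquiv, h2] at hP
  exact hP

omit hP [Finite L] [IsSimpleGroup L] in
/-- the families without a condition on the automorphisms -/
theorem plain_out {g : ℕ → Grp} {D : Fam} (hg : ∀ q, chk p k (g q) = qf p k q (fun _ => 0) 0) {q f n : ℕ}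
    (hqf : q = p ^ f) (hf : 1 ≤ f) (h1 : (n, q) ∈ cand l N D) (h2 : g q ∈ cands l N)
    (h3 : Real (g q) L) (h4 : Nat.card L = ordN (g q)) : Out1 l N p k L := by
  have hk' := valid_exact hv _ hk
  refine ⟨g q, h2, ?_, h3, h4⟩
  rw [hg]
  exact qf_of hqf hf (exp_le hv hp.out hk hk' (by rw [← hqf]; exact h1) hf) (by simp)

omit hP [Finite L] [IsSimpleGroup L] in
theorem e6_out {F : Type} [Field F] [Fintype F] [CharP F p]
    (e : L ≃* ↥(Lie.chevE6.group F)) : Out1 l N p k L := by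
  obtain ⟨f, hf, hF⟩ := exists_exp (F := F) p
  have h0 := cop_sub (q := Fintype.card F) (k := 1) Fintype.card_pos le_rfl
  rw [pow_one] at h0
  obtain ⟨h1, h2⟩ : (0, Fintype.card F) ∈ cand l N fE6 ∧ _ :=
    one_mem hv (by norm_num) Fintype.isPrimePow_card_of_field rfl
      (by rw [Nat.card_congr e.toEquiv, T.e6 F _ rfl]; ring)
      (Nat.Coprime.coprime_dvd_left (Nat.gcd_dvd_right _ _) h0) hd
  exact plain_out hv hk hd T (g := Grp.e6) (fun _ => rfl) hF hf h1 (mem_cands 9 (List.mem_map.2 ⟨_, h1, rfl⟩))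
    ⟨F, inferInstance, inferInstance, rfl, ⟨e⟩⟩ h2

omit hP [Finite L] [IsSimpleGroup L] in
theorem e7_out {F : Type} [Field F] [Fintype F] [CharP F p]
    (e : L ≃* ↥(Lie.chevE7.group F)) : Out1 l N p k L := by
  obtain ⟨f, hf, hF⟩ := exists_exp (F := F) p
  have h0 := cop_sub (q := Fintype.card F) (k := 1) Fintype.card_pos le_rfl
  rw [pow_one] at h0
  obtain ⟨h1, h2⟩ : (0, Fintype.card F) ∈ cand l N fE7 ∧ _ :=
    one_mem hv (by norm_num) Fintype.isPrimePow_card_of_field rfl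
      (by rw [Nat.card_congr e.toEquiv, T.e7 F _ rfl]; ring)
      (Nat.Coprime.coprime_dvd_left (Nat.gcd_dvd_right _ _) h0) hd
  exact plain_out hv hk hd T (g := Grp.e7) (fun _ => rfl) hF hf h1 (mem_cands 10 (List.mem_map.2 ⟨_, h1, rfl⟩))
    ⟨F, inferInstance, inferInstance, rfl, ⟨e⟩⟩ h2

omit hP [Finite L] [IsSimpleGroup L] in
theorem e8_out {F : Type} [Field F] [Fintype F] [CharP F p]
    (e : L ≃* ↥(Lie.chevE8.group F)) : Out1 l N p k L := by
  obtain ⟨f, hf, hF⟩ := exists_exp (F := F) p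
  obtain ⟨h1, h2⟩ : (0, Fintype.card F) ∈ cand l N fE8 ∧ _ :=
    one_mem hv (by norm_num) Fintype.isPrimePow_card_of_field rfl
      (by rw [Nat.card_congr e.toEquiv, T.e8 F _ rfl]; ring) (Nat.coprime_one_left _) hd
  exact plain_out hv hk hd T (g := Grp.e8) (fun _ => rfl) hF hf h1 (mem_cands 11 (List.mem_map.2 ⟨_, h1, rfl⟩))
    ⟨F, inferInstance, inferInstance, rfl, ⟨e⟩⟩ h2

omit hP [Finite L] [IsSimpleGroup L] in
theorem tf4_out (hp2 : p = 2) {F : Type} [Field F] [Fintype F] {m : ℕ} (hm : 1 ≤ m)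
    (hF : Fintype.card F = 2 ^ (2 * m + 1))
    (e : L ≃* ↥(Lie.twistedF4 F (2 ^ m))) : Out1 l N p k L := by
  obtain ⟨h1, h2⟩ : (0, 2 ^ (2 * m + 1)) ∈ cand l N fTF4 ∧ _ :=
    one_mem hv (by norm_num) (Nat.prime_two.isPrimePow.pow (by omega)) (ok_two hm)
      (by rw [Nat.card_congr e.toEquiv, T.tf4 F m hm hF]; ring) (Nat.coprime_one_left _) hd
  exact plain_out hv hk hd T (g := Grp.tf4) (fun _ => rfl) (f := 2 * m + 1) (by rw [hp2]) (by omega) h1
    (mem_cands 16 (List.mem_map.2 ⟨_, h1, rfl⟩))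
    ⟨F, inferInstance, inferInstance, m, hm, hF, rfl, ⟨e⟩⟩ h2

end fam

/-! ### the small groups in characteristic two -/

section small

variable {L : Type u} [Group L] {l : List (ℕ × ℕ)} {N k : ℕ}
variable (hv : valid l N = true) (hd : Nat.card L ∣ N) (hP : 2 ^ k ∣ Nat.card (MulAut L))
include hv hd hP

theorem alt6_out (e : L ≃* ↥(alternatingGroup (Fin 6))) : Out1 l N 2 k L := by
  have hc := alt_card (n := 6) (by norm_num) e
  refine ⟨.alt 6, mem_cands 0 (List.mem_map.2 ⟨6, mem_candAlt hv (by norm_num) ?_, rfl⟩), ?_, ⟨e⟩, ?_⟩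
  · rw [hc]
    exact Nat.mul_dvd_mul_left 2 hd
  · change (Nat.beq 2 2 && Nat.beq 6 6 && Nat.beq (1440 % 2 ^ k) 0) = true
    rw [Bool.and_eq_true]
    refine ⟨rfl, ?_⟩
    rw [Nat.beq_eq]
    refine Nat.mod_eq_zero_of_dvd ?_
    have : Fact (Nat.Prime 3) := ⟨Nat.prime_three⟩
    let F := GaloisField 3 2
    have iF : Fintype F := Fintype.ofFinite F
    have hF : Fintype.card F = 3 ^ 2 := by
      rw [← Nat.card_eq_fintype_card]
      exact GaloisField.card 3 2 (by norm_num)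
    obtain ⟨e'⟩ := S0254.result (F := F) (by rw [hF]; norm_num)
    have h1 := S0813.result (F := F) 3 2 (by norm_num) hF 2 le_rfl (by norm_num)
    rw [card_mulAut_congr (e.trans e'.symm), h1, ClassicalGeometry.PSL2Basic.card_PGL2, hF] at hP
    simpa using hP
  · exact (Nat.div_eq_of_eq_mul_right (by norm_num) hc).symm

theorem u33_out {F : Type} [Field F] [Fintype F] (hF : Fintype.card F = 9) (e : L ≃* PSU 3 F 3) :
    Out1 l N 2 k L := by
  have : Fact (Nat.Prime 3) := ⟨Nat.prime_three⟩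
  rw [Nat.card_congr e.toEquiv] at hd
  rw [card_mulAut_congr e, S0815.result (F := F) 3 1 le_rfl (q := 3) rfl (by rw [hF]; norm_num) 3 le_rfl
    (by norm_num)] at hP
  obtain ⟨h1, h2⟩ := psu_mem hv (F := F) (q := 3) (by rw [hF]; norm_num) (n := 3) le_rfl (by norm_num) hd
  refine ⟨.psu 3 3, mem_cands 3 (List.mem_map.2 ⟨_, h1, rfl⟩), ?_,
    ⟨F, inferInstance, inferInstance, by rw [hF]; norm_num, ⟨e⟩⟩, (Nat.card_congr e.toEquiv).trans h2⟩
  have h0 : chk 2 k (.psu 3 3) = ((Nat.ble 4 3 && qf 2 k 3 (fun f => 2 * f) (ordN (.psu 3 3))) ||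
    (Nat.beq 2 2 && Nat.beq 3 3 && Nat.beq 3 3 && Nat.beq ((2 * ordN (.psu 3 3)) % 2 ^ k) 0)) := rfl
  rw [h0, Bool.or_eq_true, Bool.and_eq_true (Nat.beq 2 2 && Nat.beq 3 3 && Nat.beq 3 3)]
  refine Or.inr ⟨rfl, ?_⟩
  rw [Nat.beq_eq]
  refine Nat.mod_eq_zero_of_dvd ?_
  rw [h2] at hP
  simpa using hP

theorem tits_out [Finite L] [IsSimpleGroup L] (T : OrderTable.{u}) (h : Lie.IsoTits L) : Out1 l N 2 k L := by
  have hc : Nat.card L = 17971200 := T.spor L (.tits, 17971200) (by decide) h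
  refine ⟨.tits, mem_cands 17 (spor_mem (o := 17971200) (by decide) (by rw [← hc]; exact hd)), ?_, h,
    hc.trans (spor_ord (.tits, 17971200) (by decide)).symm⟩
  change (Nat.beq 2 2 && Nat.beq ((2 * 17971200) % 2 ^ k) 0) = true
  rw [Bool.and_eq_true]
  refine ⟨rfl, ?_⟩
  rw [Nat.beq_eq]
  refine Nat.mod_eq_zero_of_dvd (hP.trans ?_)
  obtain ⟨e⟩ := h
  obtain ⟨e'⟩ := TitsK.exists_equiv
  have hz : Subgroup.center L = ⊥ := center_eq_bot Nat.prime_two (by rw [hc]; norm_num)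
  have hinj : Function.Injective (MulAut.conj : L →* MulAut L) := by
    rw [← MonoidHom.ker_eq_bot_iff, ← hz]
    ext x
    rw [MonoidHom.mem_ker, Subgroup.mem_center_iff]
    constructor
    · intro h3 y
      have := DFunLike.congr_fun h3 y
      rw [MulAut.conj_apply, MulAut.one_apply] at this
      calc y * x = (x * y * x⁻¹) * x := by rw [this]
        _ = x * y := by group
    · intro h3
      ext y
      rw [MulAut.conj_apply, MulAut.one_apply, ← h3 y]
      group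
  have hcen : Subgroup.centralizer ((Inn L : Subgroup (MulAut L)) : Set (MulAut L)) = ⊥ := by
    rw [eq_bot_iff]
    intro a ha
    rw [Subgroup.mem_bot]
    ext y
    rw [MulAut.one_apply]
    apply hinj
    have h3 := Subgroup.mem_centralizer_iff.1 ha (MulAut.conj y) ⟨y, rfl⟩
    ext w
    have h4 := DFunLike.congr_fun h3 (a⁻¹ w)
    simp only [MulAut.mul_apply, MulAut.conj_apply] at h4 ⊢
    have h5 : a (a⁻¹ w) = w := by
      rw [← MulAut.mul_apply, mul_inv_cancel, MulAut.one_apply]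
    rw [h5] at h4
    rw [h4]
    simp [h5]
  have e₀ : ↥(Inn L) ≃* ↥(TitsK.tdata.T) := (MonoidHom.ofInjective hinj).symm.trans (e.trans e')
  obtain ⟨φ, h1, h2, h3⟩ := Omega.ML.RowTits.exists_embed TitsK.tdata inferInstance e₀ hcen
  have h4 : Nat.card TitsK.tdata.H = 2 * 17971200 := by
    have h5 := TitsK.tdata.relIndex_T
    have h6 : Nat.card TitsK.tdata.T = 17971200 := by
      rw [← hc]
      exact (Nat.card_congr (e.trans e').toEquiv).symm
    have h7 := Subgroup.relIndex_mul_relIndex ⊥ TitsK.tdata.T TitsK.tdata.H bot_le TitsK.tdata.T_le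
    rw [Subgroup.relIndex_bot_left, Subgroup.relIndex_bot_left, h5, h6] at h7
    rw [← h7]
  rw [← h4]
  have h8 : Function.Injective (φ.codRestrict TitsK.tdata.H h3) := fun a b hab =>
    h1 (congrArg Subtype.val hab)
  exact Subgroup.card_dvd_of_injective _ h8

end small

/-! ### the theorem -/

theorem exists_chk (T : OrderTable.{u}) {L : Type u} [Group L] [Finite L] [IsSimpleGroup L] {l : List (ℕ × ℕ)}
    {N p k : ℕ} [hp : Fact p.Prime] (hv : valid l N = true) (hk : (p, k) ∈ l) (hd : Nat.card L ∣ N)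
    (hP : p ^ k ∣ Nat.card (MulAut L)) (h : IsLieRankAtLeastTwoChar p L) : Out1 l N p k L := by
  obtain ⟨h1, h2⟩ := h
  rcases h1 with h1 | ⟨rfl, h1⟩ | ⟨rfl, F, _, _, hF, ⟨e⟩⟩
  · rcases h1 with h1 | h1 | h1 | h1 | h1 | h1 | h1 | h1 | h1 | h1 | h1
    · obtain ⟨F, _, _, _, n, hn, hn2, ⟨e⟩⟩ := h1
      by_cases h3 : n = 2
      · subst h3
        exact absurd (Or.inl ⟨F, _, _, ‹_›, hn2 rfl, ⟨e⟩⟩) h2
      · exact psl_out hv hk hd hP (n := n) (by omega) e
    · obtain ⟨F, _, _, _, m, hm, hm2, ⟨e⟩⟩ := h1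
      exact psp_out hv hk hd hP hm hm2 e
    · obtain ⟨F, _, _, _, n, q, hF, hn, hn2, ⟨e⟩⟩ := h1
      by_cases h3 : n = 3
      · subst h3
        exact absurd (Or.inr (Or.inl ⟨F, _, _, ‹_›, q, hF, fun h => hn2 ⟨rfl, h⟩, ⟨e⟩⟩)) h2
      · exact psu_out hv hk hd hP hF (n := n) (by omega) e
    · obtain ⟨F, _, _, _, m, hm, ho, ⟨e⟩⟩ := h1
      exact oodd_out hv hk hd hP hm ho e
    · obtain ⟨F, _, _, _, m, hm, ⟨e⟩⟩ := h1
      exact oplus_out hv hk hd hP hm e
    · obtain ⟨F, _, _, _, m, a, b, hm, hab, ⟨e⟩⟩ := h1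
      exact ominus_out hv hk hd hP hm hab e
    · obtain ⟨F, _, _, _, ⟨hq, ⟨e⟩⟩ | ⟨⟨e⟩⟩ | ⟨⟨e⟩⟩ | ⟨⟨e⟩⟩ | ⟨⟨e⟩⟩⟩ := h1
      · exact g2_out hv hk hd hP T hq e
      · exact f4_out hv hk hd hP T e
      · exact e6_out hv hk hd T e
      · exact e7_out hv hk hd T e
      · exact e8_out hv hk hd T e
    · obtain ⟨F, _, _, _, q, hq, ⟨hF, ⟨e⟩⟩ | ⟨hF, ⟨e⟩⟩⟩ := h1
      · exact te6_out hv hk hd hP T hq hF e
      · exact td4_out hv hk hd hP T hq hF e
    · exact absurd (Or.inr (Or.inr (Or.inl h1))) h2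
    · obtain ⟨hp2, F, _, _, m, hm, hF, ⟨e⟩⟩ := h1
      exact tf4_out hv hk hd T hp2 hm hF e
    · exact absurd (Or.inr (Or.inr (Or.inr ⟨h1.1, Or.inl h1.2⟩))) h2
  · rcases h1 with ⟨⟨e⟩⟩ | ⟨F, _, _, hF, ⟨e⟩⟩ | h1
    · exact alt6_out hv hd hP e
    · exact u33_out hv hd hP hF e
    · exact tits_out hv hd hP T h1
  · exact absurd (Or.inr (Or.inr (Or.inr ⟨rfl, Or.inr ⟨F, _, _, hF, ⟨e⟩⟩⟩))) h2

/-- the list of all pairs `(p, g)` -/
def tot (l : List (ℕ × ℕ)) (N : ℕ) : List (ℕ × Grp) :=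
  l.flatMap fun x => ((cands l N).filter (chk x.1 x.2)).map fun g => (x.1, g)

theorem mem_tot {l : List (ℕ × ℕ)} {N p k : ℕ} {L : Type u} [Group L] (hk : (p, k) ∈ l) (h : Out1 l N p k L) :
    ∃ g, (p, g) ∈ tot l N ∧ Real g L ∧ Nat.card L = ordN g := by
  obtain ⟨g, h1, h2, h3, h4⟩ := h
  exact ⟨g, List.mem_flatMap.2 ⟨(p, k), hk, List.mem_map.2 ⟨g, List.mem_filter.2 ⟨h1, h2⟩, rfl⟩⟩, h3, h4⟩

end Cfsg.Agent.H828.AutN
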