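import Cfsg.Agent.BpTab.Spor
import Cfsg.Agent.H243.BKillB
import Cfsg.Agent.H828.MThree
import Mathlib.GroupTheory.FixedPointFree

/-!
# The centralizers of the elements of order 3 of the Baby Monster (helper828)

`not_dvd` : their orders are not divisible by 125.
-/

set_option autoImplicit false
set_option maxRecDepth 100000

namespace Cfsg.Agent.H828.BThree

open Cfsg Cfsg.Agent.BpSpor.BThree
open Cfsg.Agent.BpSpor.MThree (Dat core_inf_eq_bot valid_lM tab_lM nM lM dat_zero)
open Cfsg.Agent (Lib.Cores.pPrimeCore_normal)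
open Subgroup (centralizer zpowers mem_centralizer_singleton_iff center)

universe u v

section abs

variable {D : Type u} [Group D] [Finite D] {z : D} {X : Type v} [Group X]
  {φ : ↥(centralizer ({z} : Set D)) →* X}

omit [Finite D] in
/-- the elements of a normal subgroup of odd order which commute with `z` are central -/
theorem core_cent (H : Zer z φ) (h : Dat φ) {N : Subgroup D} (hN : N.Normal)
    (hNo : Odd (Nat.card ↥N)) {n : D} (hn : n ∈ N) (hnz : n * z = z * n) : n ∈ center D := by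
  have hsX : IsSimpleGroup X := h.simple
  let W : Subgroup ↥(centralizer ({z} : Set D)) := N.subgroupOf _
  have hWc : Nat.card ↥W ∣ Nat.card ↥N := by
    have h1 : Nat.card ↥W = Nat.card ↥(W.map (centralizer ({z} : Set D)).subtype) :=
      Nat.card_congr (W.equivMapOfInjective _ (Subgroup.subtype_injective _)).toEquiv
    rw [h1]
    refine Subgroup.card_dvd_of_le ?_
    rintro _ ⟨w, hw, rfl⟩
    exact Subgroup.mem_subgroupOf.1 hw
  have hW : (W.map φ).Normal := (inferInstance : W.Normal).map φ h.surj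
  have hWb : W.map φ = ⊥ := by
    rcases hW.eq_bot_or_eq_top with h1 | h1
    · exact h1
    · exfalso
      have h2 : Nat.card X ∣ Nat.card ↥N := by
        refine dvd_trans ?_ hWc
        rw [← Subgroup.card_top (G := X), ← h1]
        exact Subgroup.card_dvd_of_surjective (φ.subgroupMap W) (φ.subgroupMap_surjective W)
      rw [h.card] at h2
      have h3 : 2 ∣ Nat.card ↥N := dvd_trans (by norm_num) h2
      exact (Nat.not_even_iff_odd.2 hNo) (even_iff_two_dvd.2 h3)
  have hk : (⟨n, mem_centralizer_singleton_iff.2 hnz⟩ : ↥(centralizer ({z} : Set D))) ∈ φ.ker := by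
    have h1 : φ ⟨n, mem_centralizer_singleton_iff.2 hnz⟩ ∈ W.map φ :=
      Subgroup.mem_map_of_mem _ (Subgroup.mem_subgroupOf.2 hn)
    rw [hWb] at h1
    exact Subgroup.mem_bot.1 h1
  have h6 := h.ker.six _ hk
  have h6' : n ^ 6 = 1 := congrArg Subtype.val h6
  have hno : orderOf n ∣ Nat.card ↥N := by
    have := orderOf_dvd_natCard (⟨n, hn⟩ : ↥N)
    rwa [Subgroup.orderOf_mk] at this
  have h3 : n ^ 3 = 1 := by
    rw [← orderOf_dvd_iff_pow_eq_one]
    have h4 : orderOf n ∣ 2 * 3 := orderOf_dvd_of_pow_eq_one h6'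
    have h5 : Odd (orderOf n) := hNo.of_dvd_nat hno
    exact (Nat.Coprime.dvd_of_dvd_mul_left (Nat.coprime_two_right.2 h5) h4)
  exact H.cen _ hk (Subtype.ext h3)

/-- normal subgroups of odd order have order prime to the primes `≥ 5` -/
theorem core_not_dvd (H : Zer z φ) (h : Dat φ) (hD : Nat.card D ∣ nM) {N : Subgroup D} (hN : N.Normal)
    (hNo : Odd (Nat.card ↥N)) {r : ℕ} (hr : r.Prime) (h5 : 5 ≤ r) : ¬ r ∣ Nat.card ↥N := by
  intro hd
  have hrF : Fact r.Prime := ⟨hr⟩
  obtain ⟨e⟩ := h.suz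
  have h0 : pPrimeCore 3 D ⊓ N = ⊥ := core_inf_eq_bot h.z2 h.surj h.ker e h.no7 hN hNo valid_lM hD tab_lM
  have hz2 := h.z2
  have hzi : z⁻¹ = z := inv_eq_of_mul_eq_one_left hz2
  let q := QuotientGroup.mk' (center D)
  let M : Subgroup (D ⧸ center D) := N.map q
  have hM : M.Normal := hN.map q (QuotientGroup.mk'_surjective _)
  let σ : MulAut ↥M := MulAut.conjNormal (q z)
  have hσ : ∀ m : ↥M, ((σ m : ↥M) : D ⧸ center D) = q z * m * (q z)⁻¹ := fun m => rfl
  have hinv : Function.Involutive σ := by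
    intro m
    apply Subtype.ext
    rw [hσ, hσ]
    have h1 : q z * q z = 1 := by rw [← map_mul, hz2, map_one]
    calc q z * (q z * (m : D ⧸ center D) * (q z)⁻¹) * (q z)⁻¹ = (q z * q z) * m * (q z * q z)⁻¹ := by group
      _ = m := by rw [h1]; group
  have hfix : MonoidHom.FixedPointFree σ := by
    rintro ⟨_, n, hn, rfl⟩ hfix
    have h1 : q (z * n * z⁻¹) = q n := by
      rw [map_mul, map_mul, map_inv]
      exact congrArg Subtype.val hfix
    have h2 : n⁻¹ * (z * n * z⁻¹) ∈ center D := by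
      have h3 : q (n⁻¹ * (z * n * z⁻¹)) = 1 := by rw [map_mul, h1, map_inv, inv_mul_cancel]
      exact (QuotientGroup.eq_one_iff _).1 h3
    set c := n⁻¹ * (z * n * z⁻¹) with hc
    have hcz : z * c = c * z := (Subgroup.mem_center_iff.1 h2 z)
    have hnc : z * n * z⁻¹ = n * c := by rw [hc]; group
    have hcc : c * c = 1 := by
      have h4 : n = n * (c * c) := by
        calc n = (z * z) * n * (z * z)⁻¹ := by rw [hz2]; group
          _ = z * (z * n * z⁻¹) * z⁻¹ := by group
          _ = z * (n * c) * z⁻¹ := by rw [hnc]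
          _ = (z * n * z⁻¹) * (z * c * z⁻¹) := by group
          _ = (n * c) * (c * z * z⁻¹) := by rw [hnc, hcz]
          _ = n * (c * c) := by group
      exact (mul_eq_left.1 h4.symm)
    have hcN : c ∈ N := N.mul_mem (N.inv_mem hn) (hN.conj_mem _ hn z)
    have hc1 : c = 1 := by
      rw [← orderOf_eq_one_iff]
      have h5 : orderOf c ∣ 2 := orderOf_dvd_of_pow_eq_one (by rw [pow_two, hcc])
      have h6 : orderOf c ∣ Nat.card ↥N := by
        have := orderOf_dvd_natCard (⟨c, hcN⟩ : ↥N)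
        rwa [Subgroup.orderOf_mk] at this
      have h7 : Odd (orderOf c) := hNo.of_dvd_nat h6
      rcases (Nat.dvd_prime Nat.prime_two).1 h5 with h8 | h8
      · exact h8
      · rw [h8] at h7
        exact absurd h7 (by decide)
    rw [hc1, mul_one] at hnc
    have hnz : n * z = z * n := (mul_inv_eq_iff_eq_mul.1 hnc).symm
    apply Subtype.ext
    exact (QuotientGroup.eq_one_iff _).2 (core_cent H h hN hNo hn hnz)
  have hcomm := hfix.commute_all_of_involutive hinv
  -- `N` is nilpotent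
  let f : ↥N →* ↥M := q.subgroupMap N
  have hker : f.ker ≤ center ↥N := by
    intro n hn
    have h1 : q n = 1 := congrArg Subtype.val (MonoidHom.mem_ker.1 hn)
    have h2 : (n : D) ∈ center D := (QuotientGroup.eq_one_iff _).1 h1
    rw [Subgroup.mem_center_iff]
    intro m
    exact Subtype.ext (Subgroup.mem_center_iff.1 h2 m)
  have hMn : Group.IsNilpotent ↥M := by
    let : CommGroup ↥M := { (inferInstance : Group ↥M) with mul_comm := fun a b => (hcomm a b).eq }
    infer_instance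
  have hnil : Group.IsNilpotent ↥N := Subgroup.isNilpotent_of_ker_le_center f hker
  obtain ⟨R⟩ : Nonempty (Sylow r ↥N) := inferInstance
  have hR : (R : Subgroup ↥N).Normal := inferInstance
  have hRc : (R : Subgroup ↥N).Characteristic := R.characteristic_of_normal hR
  have hRn : ((R : Subgroup ↥N).map N.subtype).Normal := inferInstance
  have hcard : Nat.card ↥((R : Subgroup ↥N).map N.subtype) = Nat.card ↥(R : Subgroup ↥N) :=
    (Nat.card_congr ((R : Subgroup ↥N).equivMapOfInjective _ (Subgroup.subtype_injective _)).toEquiv).symm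
  have h1 : (R : Subgroup ↥N).map N.subtype ≤ pPrimeCore 3 D := by
    refine Lib.Cores.le_pPrimeCore hRn ?_
    rw [hcard]
    obtain ⟨k, hk⟩ := IsPGroup.iff_card.1 R.isPGroup'
    rw [hk]
    exact Nat.Coprime.pow_left _ ((Nat.coprime_primes hr Nat.prime_three).2 (by omega))
  have h2 : (R : Subgroup ↥N).map N.subtype ≤ N := by
    rintro _ ⟨w, -, rfl⟩
    exact w.2
  have h3 : (R : Subgroup ↥N).map N.subtype = ⊥ := by
    rw [eq_bot_iff, ← h0]
    exact le_inf h1 h2
  have h4 : r ∣ Nat.card ↥(R : Subgroup ↥N) := R.dvd_card_of_dvd_card hd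
  rw [← hcard, h3, Subgroup.card_bot] at h4
  exact hr.one_lt.ne' (Nat.dvd_one.1 h4)

/-- powers of primes `≥ 5` dividing the order -/
theorem dvd_cent (H : Zer z φ) (h : Dat φ) (hD : Nat.card D ∣ nM) {r k : ℕ} (hr : r.Prime) (h5 : 5 ≤ r)
    (hk : r ^ k ∣ Nat.card D) : r ^ k ∣ Nat.card ↥(centralizer ({z} : Set D)) := by
  obtain ⟨N, hN, hNo, hsup⟩ := LThreeMB.ZStar.exists_core h.ord h.iso
  have h0 := core_not_dvd H h hD hN hNo hr h5
  have h1 : N.index ∣ Nat.card ↥(centralizer ({z} : Set D)) := by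
    have h2 : N.relIndex (centralizer ({z} : Set D)) = N.index := by
      rw [← Subgroup.relIndex_sup_right, sup_comm, hsup, Subgroup.relIndex_top_right]
    rw [← h2]
    exact Subgroup.relIndex_dvd_card _ _
  refine dvd_trans ?_ h1
  rw [← N.card_mul_index] at hk
  exact (Nat.Coprime.pow_left k ((Nat.Prime.coprime_iff_not_dvd hr).2 h0)).dvd_of_dvd_mul_left hk

end abs

open Cfsg.Agent.MonsterU Cfsg.Agent.LThree Cfsg.Agent.LThreeMB Cfsg.Agent.LThreeB
open Cfsg.Agent.MonsterU.Ch
open Cfsg.Agent.MonsterU.Lam2 (L2)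
open Cfsg.Spor (Co1)
open Cfsg.Agent.MonsterX.KSide Cfsg.Agent.MonsterX.KLift

section

variable {G : Type u} {V P W : Type*} [Group G] [AddCommGroup V] [Module ℚ V]
  [DistribMulAction G V] [SMulCommClass G ℚ V] [Group P] [AddCommGroup W] [Module ℚ W]
  {M : KS G V P W} {θ : leechLattice → P}

/-- fixed rank 0 -/
theorem zero_not_dvd [Finite G] (L : Lift M θ) (hc : KChart.Cent M) (I : CoOne) (ht : TrNe M.z (KChart.pi hc))
    (hG : Nat.card G = nM) {x : centralizer ({M.z} : Set G)} (hx : orderOf x = 3) (hfr : fr (KChart.pi hc x) = 1) :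
    ¬ 125 ∣ Nat.card ↥(centralizer ({(x : G)} : Set G)) := by
  intro hd
  have h := KChart.chart L hc
  have hS := I.suz _ (orderOf_pi h hx) hfr
  have H := zer h ht hx hfr hS (exists_root L hc hx hfr)
  have hDat := dat_zero L hc ht hx hfr hS
  have h1 : Nat.card ↥(centralizer ({(x : G)} : Set G)) ∣ nM := hG ▸ Subgroup.card_subgroup_dvd_card _
  have h2 := dvd_cent H hDat h1 (r := 5) (k := 3) Nat.prime_five le_rfl hd
  have hx3 : x ^ 3 = 1 := by rw [← hx, pow_orderOf_eq_one]
  have h3 : Nat.card ↥(centralizer ({zD x} : Set ↥(centralizer ({(x : G)} : Set G)))) ∣ 3 * 2 ^ 25 * 448345497600 := by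
    rw [(toXX (KChart.pi hc) x).ker.card_eq_card_quotient_mul_card_subgroup,
      Nat.card_congr (QuotientGroup.quotientKerEquivOfSurjective _ (toXX_surj h hx3)).toEquiv, hDat.card, mul_comm]
    exact Nat.mul_dvd_mul_right (h.card_Q ▸ MThree.card_ker_dvd h hx) _
  have h4 := h2.trans h3
  norm_num at h4

/-- all `x` of order 3 commuting with `M.z` and with an involution which is not conjugate to `M.z` -/
theorem mem_not_dvd [Finite G] [IsSimpleGroup G] (L : Lift M θ) (hc : KChart.Cent M) (I : CoOne)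
    (ht : TrNe M.z (KChart.pi hc)) (hp : HasPair M.z (KChart.pi hc)) (hG : Nat.card G = nM)
    {x : centralizer ({M.z} : Set G)} (hx : orderOf x = 3) {t : G} (hto : orderOf t = 2) (htx : t * (x : G) = x * t)
    (hn : ∀ g, g * t * g⁻¹ ≠ M.z) : ¬ 125 ∣ Nat.card ↥(centralizer ({(x : G)} : Set G)) := by
  have h := KChart.chart L hc
  have hxo : orderOf (x : G) = 3 := by rw [Subgroup.orderOf_coe, hx]
  rcases I.ranks _ (orderOf_pi h hx) with hfr | hfr | hfr | hfr
  · exact zero_not_dvd L hc I ht hG hx hfr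
  · obtain ⟨x₀, u, g, hx₀, hfr₀, huz, hux, hne, hg⟩ := id hp
    obtain ⟨k, hk⟩ := conj_six h ht I.ranks I.six (fun x hx h2 => ⟨(good_of_inputs.{u} h I hx h2).simple,
      (good_of_inputs.{u} h I hx h2).nc⟩) hx₀ hfr₀ huz hux hne hg hx hfr
    have h1 := zero_not_dvd L hc I ht hG hx₀ hfr₀
    obtain ⟨⟨e⟩, -⟩ := exists_XX_equiv hk
    rwa [Nat.card_congr e.toEquiv]
  · obtain ⟨g, hg⟩ := Cases.exists_of_th (LargeExtra.Base.orderOf_z h.large) hx (LThreeB.isoTh_of_inputs h I hx hfr) hto
      htx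
    exact absurd hg (hn g)
  · obtain ⟨s, hs, hfs, ht, h4⟩ := I.psu
    obtain ⟨x', hx', hs', c, hc⟩ := exists_conj_to h hx hs (by rw [hfr]; exact I.twelve) (by rw [hfs, hfr])
    subst hs'
    obtain ⟨-, ⟨f⟩⟩ := exists_XX_equiv hc
    obtain ⟨g⟩ := isoFi24_congr f (iso_fi24 h hx' hfs (by rw [hfs]; exact I.twelve) ht h4)
    rw [MThree.card_centralizer hxo, Nat.card_congr g.toEquiv, Cfsg.Agent.S1698.result.2]
    norm_num

end

/-- **lifts to `C(t)`** -/
theorem exists_lift {G : Type u} [Group G] [Finite G] {t : G} (ht : orderOf t = 2) {X : Type v} [Group X]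
    {p : ℕ} (hp : p.Prime) (hp2 : p ≠ 2) (q : ↥(centralizer ({t} : Set G)) →* X) (hq : Function.Surjective q)
    (hk : ∀ c : ↥(centralizer ({t} : Set G)), q c = 1 ↔ (c : G) = 1 ∨ (c : G) = t) {x : X} (hx : orderOf x = p) :
    ∃ w : ↥(centralizer ({t} : Set G)), q w = x ∧ orderOf (w : G) = p ∧
      ∀ c : ↥(centralizer ({t} : Set G)), q c * x = x * q c → (c : G) * w = w * c := by
  have : Fact p.Prime := ⟨hp⟩
  have htt : t * t = 1 := by rw [← pow_two, ← ht, pow_orderOf_eq_one]
  obtain ⟨m, hm⟩ : Odd p := hp.odd_of_ne_two hp2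
  have htp : t ^ p = t := by rw [hm, pow_succ, pow_mul, pow_two, htt, one_pow, one_mul]
  -- a lift of order `p`
  obtain ⟨w, hwq, hwp⟩ : ∃ w : ↥(centralizer ({t} : Set G)), q w = x ∧ (w : G) ^ p = 1 := by
    obtain ⟨y, hy⟩ := hq x
    have hyt : Commute (y : G) t := mem_centralizer_singleton_iff.1 y.2
    have h1 : q (y ^ p) = 1 := by rw [map_pow, hy, ← hx, pow_orderOf_eq_one]
    rcases (hk _).1 h1 with h2 | h2
    · exact ⟨y, hy, by rw [← h2]; rfl⟩
    · refine ⟨y * ⟨t, mem_centralizer_singleton_iff.2 rfl⟩, ?_, ?_⟩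
      · rw [map_mul, (hk ⟨t, mem_centralizer_singleton_iff.2 rfl⟩).2 (Or.inr rfl), mul_one, hy]
      · show ((y : G) * t) ^ p = 1
        have h3 : (y : G) ^ p = t := h2
        rw [hyt.mul_pow, htp, h3, htt]
  have hwo : orderOf (w : G) = p := by
    refine orderOf_eq_prime hwp fun h2 => ?_
    have h3 : w = 1 := Subtype.ext h2
    rw [h3, map_one] at hwq
    rw [← hwq, orderOf_one] at hx
    exact hp.one_lt.ne hx
  refine ⟨w, hwq, hwo, fun c hc => ?_⟩
  have hct : Commute (c : G) t := mem_centralizer_singleton_iff.1 c.2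
  have hwt : Commute (w : G) t := mem_centralizer_singleton_iff.1 w.2
  have h1 : q (c * w * c⁻¹ * w⁻¹) = 1 := by
    rw [map_mul, map_mul, map_mul, map_inv, map_inv, hwq, hc]
    group
  rcases (hk _).1 h1 with h2 | h2
  · have h3 : (c : G) * w * (c : G)⁻¹ * (w : G)⁻¹ = 1 := h2
    calc (c : G) * w = (c : G) * w * (c : G)⁻¹ * (w : G)⁻¹ * (w * c) := by group
      _ = w * c := by rw [h3, one_mul]
  · exfalso
    have h3 : (c : G) * w * (c : G)⁻¹ * (w : G)⁻¹ = t := h2
    have h4 : (c : G) * w * (c : G)⁻¹ = t * w := mul_inv_eq_iff_eq_mul.1 h3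
    have h5 : ((c : G) * w * (c : G)⁻¹) ^ p = 1 := by rw [conj_pow, hwp]; group
    rw [h4, hwt.symm.mul_pow, htp, hwp, mul_one] at h5
    rw [h5, orderOf_one] at ht
    norm_num at ht

theorem card_lift {G : Type u} [Group G] [Finite G] {t : G} (ht : orderOf t = 2) {X : Type v} [Group X]
    {p : ℕ} (hp : p.Prime) (hp2 : p ≠ 2) (q : ↥(centralizer ({t} : Set G)) →* X) (hq : Function.Surjective q)
    (hk : ∀ c : ↥(centralizer ({t} : Set G)), q c = 1 ↔ (c : G) = 1 ∨ (c : G) = t) {x : X} (hx : orderOf x = p) :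
    ∃ w : G, orderOf w = p ∧ t * w = w * t ∧
      Nat.card ↥(centralizer ({x} : Set X)) ∣ Nat.card ↥(centralizer ({w} : Set G)) := by
  obtain ⟨w, hwq, hwo, hw⟩ := exists_lift ht hp hp2 q hq hk hx
  refine ⟨w, hwo, (mem_centralizer_singleton_iff.1 w.2).symm, ?_⟩
  let A : Subgroup ↥(centralizer ({t} : Set G)) := (centralizer ({x} : Set X)).comap q
  have h1 : Nat.card ↥(centralizer ({x} : Set X)) ∣ Nat.card ↥A := by
    have h2 : A.map q = centralizer ({x} : Set X) := Subgroup.map_comap_eq_self_of_surjective hq _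
    rw [← h2]
    exact Subgroup.card_dvd_of_surjective (q.subgroupMap A) (q.subgroupMap_surjective A)
  have h2 : A.map (centralizer ({t} : Set G)).subtype ≤ centralizer ({(w : G)} : Set G) := by
    rintro _ ⟨a, ha, rfl⟩
    exact mem_centralizer_singleton_iff.2 (hw a (mem_centralizer_singleton_iff.1 ha))
  refine h1.trans (dvd_trans (dvd_of_eq ?_) (Subgroup.card_dvd_of_le h2))
  exact Nat.card_congr (A.equivMapOfInjective _ (Subgroup.subtype_injective _)).toEquiv

end Cfsg.Agent.H828.BThree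

namespace Cfsg.Agent.H828.BThree

open Cfsg Cfsg.Agent.MonsterX Cfsg.Agent.MonsterX.InstData Cfsg.Agent.MonsterX.MainPack Cfsg.Agent.MonsterU
open Cfsg.Agent.MonsterP Cfsg.Agent.MonsterN Cfsg.Agent.PreUniq Cfsg.Agent.PreUniqB
open Cfsg.Agent.LThreeMB (KChart.Cent KChart.pi KChart.chart CoOne)
open Cfsg.Agent.MonsterX.MainBasic Cfsg.Agent.MonsterX.MainSimple Cfsg.Agent.MonsterX.Model
open Cfsg.Agent.CpAutBFive
open Subgroup (centralizer mem_centralizer_singleton_iff center mem_inf)

/-- **the double cover of the Baby Monster in the Monster** -/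
theorem cover : ∃ t : ↥InstData.M.G, IsConj RowB.t t ∧ orderOf t = 2 ∧
    ∃ q : ↥(centralizer ({t} : Set ↥InstData.M.G)) →* Spor.BabyMonster, Function.Surjective q ∧
      ∀ c : ↥(centralizer ({t} : Set ↥InstData.M.G)), q c = 1 ↔ (c : ↥InstData.M.G) = 1 ∨ (c : ↥InstData.M.G) = t := by
  have hfin : Finite ↥InstData.M.G := MFive.Row.finite_model
  obtain ⟨⟨h1, -, ⟨e⟩⟩, -⟩ := ModelB.fieldsKS LitFin.all KDone.lnk KDone.lft (NodesGrp.prel LitFin.H)
    (NodesNe.ne LitFin.H) LitFin.conj_ten Cfsg.Agent.S1704.result KDone.lnk.x₀_mem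
  obtain ⟨g, hg⟩ := ModelB.exists_conj_t LitFin.all.hG LitFin.all.hR KDone.lnk KDone.lft KDone.lnk.x₀_mem
  set t := KDone.K.ι KLinkInst.x₀ with ht
  have hconj : IsConj RowB.t t := isConj_iff.2 ⟨g, hg⟩
  have hto : orderOf t = 2 := RowB.orderOf_t hconj
  let tC : ↥(centralizer ({t} : Set ↥InstData.M.G)) := ⟨t, mem_centralizer_singleton_iff.2 rfl⟩
  have htc : tC ∈ center ↥(centralizer ({t} : Set ↥InstData.M.G)) := by
    rw [Subgroup.mem_center_iff]
    intro c
    exact Subtype.ext (mem_centralizer_singleton_iff.1 c.2)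
  have htC1 : tC ≠ 1 := by
    intro h
    have h2 : t = 1 := congrArg Subtype.val h
    rw [h2, orderOf_one] at hto
    norm_num at hto
  have hcen : ∀ c : ↥(centralizer ({t} : Set ↥InstData.M.G)), c ∈ center ↥(centralizer ({t} : Set ↥InstData.M.G)) ↔
      c = 1 ∨ c = tC := by
    intro c
    constructor
    · intro hc
      obtain ⟨y, hy, huniq⟩ := (Nat.card_eq_two_iff' (1 : ↥(center ↥(centralizer ({t} : Set ↥InstData.M.G))))).1 h1
      by_cases hc1 : c = 1
      · exact Or.inl hc1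
      · right
        have h2 := huniq ⟨c, hc⟩ (fun h => hc1 (congrArg Subtype.val h))
        have h3 := huniq ⟨tC, htc⟩ (fun h => htC1 (congrArg Subtype.val h))
        exact congrArg Subtype.val (h2.trans h3.symm)
    · rintro (rfl | rfl)
      · exact Subgroup.one_mem _
      · exact htc
  refine ⟨t, hconj, hto, e.toMonoidHom.comp (QuotientGroup.mk' (center ↥(centralizer ({t} : Set ↥InstData.M.G)))),
    e.surjective.comp (QuotientGroup.mk'_surjective _), fun c => ?_⟩
  show e (QuotientGroup.mk c) = 1 ↔ _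
  rw [e.map_eq_one_iff, QuotientGroup.eq_one_iff, hcen]
  constructor
  · rintro (rfl | rfl)
    · exact Or.inl rfl
    · exact Or.inr rfl
  · rintro (h | h)
    · exact Or.inl (Subtype.ext h)
    · exact Or.inr (Subtype.ext h)

/-- in the model of the Monster -/
theorem model_not_dvd {x t : ↥InstData.M.G} (hx : orderOf x = 3) (ht : IsConj RowB.t t) (hxt : t * x = x * t) :
    ¬ 125 ∣ Nat.card ↥(centralizer ({x} : Set ↥InstData.M.G)) := by
  have hfin : Finite ↥InstData.M.G := MFive.Row.finite_model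
  have hs : IsSimpleGroup ↥InstData.M.G := MFive.Row.simple_model
  obtain ⟨g, hg, -⟩ := LThreeM.FiRow.exists_z_in (by rw [← hx, pow_orderOf_eq_one]) ht hxt.symm
  have h1 : (g⁻¹ * x * g) * KDone.K.z = KDone.K.z * (g⁻¹ * x * g) := by
    calc (g⁻¹ * x * g) * KDone.K.z = g⁻¹ * (x * (g * KDone.K.z * g⁻¹)) * g := by group
      _ = g⁻¹ * ((g * KDone.K.z * g⁻¹) * x) * g := by rw [hg]
      _ = KDone.K.z * (g⁻¹ * x * g) := by group
  let x' : centralizer ({KDone.K.z} : Set ↥InstData.M.G) := ⟨g⁻¹ * x * g, mem_centralizer_singleton_iff.2 h1⟩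
  have h3 : g * (x' : ↥InstData.M.G) * g⁻¹ = x := by
    show g * (g⁻¹ * x * g) * g⁻¹ = x
    group
  have hx' : orderOf x' = 3 := by
    rw [← Subgroup.orderOf_coe, ← hx, ← h3]
    exact (orderOf_injective (MulAut.conj g).toMonoidHom (MulAut.conj g).injective (x' : ↥InstData.M.G)).symm
  have h4 : (g⁻¹ * t * g) * (x' : ↥InstData.M.G) = x' * (g⁻¹ * t * g) := by
    show (g⁻¹ * t * g) * (g⁻¹ * x * g) = (g⁻¹ * x * g) * (g⁻¹ * t * g)
    calc (g⁻¹ * t * g) * (g⁻¹ * x * g) = g⁻¹ * (t * x) * g := by group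
      _ = g⁻¹ * (x * t) * g := by rw [hxt]
      _ = _ := by group
  have h5 : orderOf (g⁻¹ * t * g) = 2 := by
    rw [← RowB.orderOf_t ht]
    have h6 := MulEquiv.orderOf_eq (MulAut.conj g⁻¹) t
    rw [MulAut.conj_apply, inv_inv] at h6
    exact h6
  have h6 := mem_not_dvd KDone.lft MFive.Row.hc LThreeMB.CoOneFin.coOne
    (LThreeMB.KPair.trNe KDone.lft MFive.Row.hc (LThreeMBTr.traceNe KDone.lft LThreeMBTr.TensK.tens))
    (LThreeMB.KPair.hasPair KDone.lft MFive.Row.hc LThreeB.Row.second LThreeMB.COct.octPair)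
    Cfsg.Agent.BpSpor.MThree.card_model hx' h5 h4 (by
      intro d hd
      refine RowB.not_conj ht (d * g⁻¹) ?_
      rw [← hd]
      group)
  obtain ⟨⟨e⟩, -⟩ := LThreeMB.exists_XX_equiv h3
  rwa [← Nat.card_congr e.toEquiv]

/-- **the centralizers of the elements of order 3 of the Baby Monster** -/
theorem baby_not_dvd {x : Spor.BabyMonster} (hx : orderOf x = 3) :
    ¬ 125 ∣ Nat.card ↥(centralizer ({x} : Set Spor.BabyMonster)) := by
  have hfin : Finite ↥InstData.M.G := MFive.Row.finite_model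
  obtain ⟨t, ht, hto, q, hq, hk⟩ := cover
  obtain ⟨w, hwo, hwt, hd⟩ := card_lift hto Nat.prime_three (by norm_num) q hq hk hx
  exact fun h => model_not_dvd hwo ht hwt (h.trans hd)

theorem not_dvd {K : Type*} [Group K] (hK : Spor.IsoB K) {x : K} (hx : orderOf x = 3) :
    ¬ 125 ∣ Nat.card ↥(centralizer ({x} : Set K)) := by
  obtain ⟨e⟩ := hK
  have hx' : orderOf (e x) = 3 := by rw [MulEquiv.orderOf_eq]; exact hx
  have h1 := baby_not_dvd hx'
  intro h
  apply h1
  have h2 : Nat.card ↥(centralizer ({x} : Set K)) = Nat.card ↥(centralizer ({e x} : Set Spor.BabyMonster)) := by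
    refine Nat.card_congr (Equiv.subtypeEquiv e.toEquiv fun a => ?_)
    rw [mem_centralizer_singleton_iff, mem_centralizer_singleton_iff]
    show a * x = x * a ↔ e a * e x = e x * e a
    rw [← map_mul, ← map_mul, e.injective.eq_iff]
  rwa [← h2]

end Cfsg.Agent.H828.BThree
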