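import Cfsg.Agent.H828.FiOrd
import Cfsg.Agent.H419.Count
import Cfsg.Agent.H387.VO.Main
import Cfsg.Agent.KFacts.FiTF.FrameF

/-!
# `Fi₂₄'`, `p = 5, 7`: two classes of vanishing `p`-singular elements (helper828, S4987)

* `le_classes` : `36 ≤ k(Fi₂₄')`;
* `two_fi24_5`, `two_fi24_7`.
-/

set_option autoImplicit false
set_option maxRecDepth 100000

namespace Cfsg.Agent.H828.FiVan

open Cfsg Cfsg.Spor Equiv Subgroup
open Cfsg.Agent.Fischer.Fi24Final (sgn sgn_gen ker_sgn)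
open Cfsg.Agent.H713 (VZ)

universe u

/-! ### Permutations -/

/-- the cycle on a list -/
abbrev cy {n : ℕ} (l : List (Fin n)) : Perm (Fin n) := l.formPerm

theorem ct {n : ℕ} (l : List (Fin n)) (hl : l.Nodup) (h2 : 2 ≤ l.length) : (cy l).cycleType = {l.length} := by
  have h1 : (cy l).IsCycle := List.isCycle_formPerm hl h2
  rw [h1.cycleType]
  have h3 : (cy l).support = l.toFinset :=
    List.support_formPerm_of_nodup l hl (by rintro x rfl; simp at h2)
  rw [h3, List.toFinset_card_of_nodup hl]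

theorem disj {n : ℕ} {l m : List (Fin n)} (hl : l.Nodup) (hm : m.Nodup) (h2 : 2 ≤ l.length) (h3 : 2 ≤ m.length)
    (h : l.Disjoint m) : (cy l).Disjoint (cy m) :=
  (List.formPerm_disjoint_iff hl hm h2 h3).2 h

/-- type 7 in `S₉` -/
def a7 : Perm (Fin 9) := cy [0, 1, 2, 3, 4, 5, 6]

theorem ct_a7 : a7.cycleType = {7} := ct _ (by decide) (by decide)

/-- type 9 in `S₉` -/
def a9 : Perm (Fin 9) := cy [0, 1, 2, 3, 4, 5, 6, 7, 8]

theorem ct_a9 : a9.cycleType = {9} := ct _ (by decide) (by decide)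

/-- type 6.2 in `S₉` -/
def a6 : Perm (Fin 9) := cy [0, 1, 2, 3, 4, 5] * cy [6, 7]

theorem ct_a6 : a6.cycleType = {6, 2} := by
  rw [a6, (disj (by decide) (by decide) (by decide) (by decide) (by unfold List.Disjoint; decide)).cycleType_mul,
    ct _ (by decide) (by decide), ct _ (by decide) (by decide)]
  rfl

/-- type 4.2 in `S₇` -/
def b4 : Perm (Fin 7) := cy [0, 1, 2, 3] * cy [4, 5]

theorem ct_b4 : b4.cycleType = {4, 2} := by
  rw [b4, (disj (by decide) (by decide) (by decide) (by decide) (by unfold List.Disjoint; decide)).cycleType_mul,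
    ct _ (by decide) (by decide), ct _ (by decide) (by decide)]
  rfl

theorem ord_a7 : orderOf a7 = 7 := by rw [← Perm.lcm_cycleType, ct_a7]; rfl
theorem ord_a9 : orderOf a9 = 9 := by rw [← Perm.lcm_cycleType, ct_a9]; rfl
theorem ord_a6 : orderOf a6 = 6 := by rw [← Perm.lcm_cycleType, ct_a6]; rfl
theorem ord_b4 : orderOf b4 = 4 := by rw [← Perm.lcm_cycleType, ct_b4]; rfl

theorem card_a7 : Nat.card (centralizer ({a7} : Set (Perm (Fin 9)))) = 2 * 7 := by
  rw [Perm.nat_card_centralizer, ct_a7]; rfl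
theorem card_a6 : Nat.card (centralizer ({a6} : Set (Perm (Fin 9)))) = 2 * 6 := by
  rw [Perm.nat_card_centralizer, ct_a6]; rfl
theorem card_b4 : Nat.card (centralizer ({b4} : Set (Perm (Fin 7)))) = 2 * 4 := by
  rw [Perm.nat_card_centralizer, ct_b4]; rfl

theorem sg_a7 : Perm.sign a7 = 1 := by decide +kernel
theorem sg_a6 : Perm.sign a6 = 1 := by decide +kernel
theorem sg_a9 : Perm.sign a9 = 1 := by decide +kernel
theorem sg_b4 : Perm.sign b4 = 1 := by decide +kernel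

/-! ### The elements -/

variable {n p : ℕ} {y : Fi24} {Φ : Perm (Fin n) →* Fi24}

/-- **The vanishing criterion.** -/
theorem Fr.vz (F : Fr n p y Φ) {h : Perm (Fin n)} (hc : Nat.Coprime p (orderOf h)) (hs : Perm.sign h = 1)
    {m : ℕ} (hm : Nat.card (centralizer ({h} : Set (Perm (Fin n)))) = 2 * m)
    {u : Perm (Fin n)} (hu : u * h = h * u) (hus : Perm.sign u = -1)
    (hk : p * m < Nat.card (ConjClasses Spor.Fi24')) :
    VZ Spor.Fi24' (⟨el y Φ h, F.mem_el hs⟩ : Spor.Fi24') := by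
  have hfin : Finite Spor.Fi24' := H713.Spor.FiTF.finite'
  refine Cfsg.Agent.H710.VanCount.vz_of_card _ ((F.card_cent hc hs hm hu hus).trans_lt hk) ?_
  intro α
  refine ⟨1, ?_⟩
  rw [pow_one]
  obtain ⟨g, hg⟩ := Cfsg.Agent.KFacts.FiTF.exists_conj α
  -- the odd element of the centralizer
  have hr : Φ u * el y Φ h * (Φ u)⁻¹ = el y Φ h := by
    rw [mul_inv_eq_iff_eq_mul]
    have h1 : Commute (Φ u) y := F.comm u
    have h2 : Commute (Φ u) (Φ h) := by
      show Φ u * Φ h = Φ h * Φ u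
      rw [← map_mul, ← map_mul, hu]
    exact (h1.mul_right h2).eq
  have hmem : ∀ {z : Fi24}, sgn z = 1 → z ∈ commutator Fi24 := by
    intro z hz
    rw [← ker_sgn]
    exact hz
  rcases Int.units_eq_one_or (sgn g) with h1 | h1
  · refine isConj_iff.2 ⟨⟨g, hmem h1⟩, ?_⟩
    apply Subtype.ext
    exact (hg _).symm
  · refine isConj_iff.2 ⟨⟨g * Φ u, hmem ?_⟩, ?_⟩
    · rw [map_mul, h1, F.sgn_Phi, hus]; rfl
    · apply Subtype.ext
      show g * Φ u * el y Φ h * (g * Φ u)⁻¹ = _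
      rw [hg]
      show _ = g * el y Φ h * g⁻¹
      calc g * Φ u * el y Φ h * (g * Φ u)⁻¹ = g * (Φ u * el y Φ h * (Φ u)⁻¹) * g⁻¹ := by group
        _ = _ := by rw [hr]

theorem exists_el (F : Fr n p y Φ) {h : Perm (Fin n)} (hc : Nat.Coprime p (orderOf h)) (hs : Perm.sign h = 1) :
    orderOf (⟨Fr.el y Φ h, F.mem_el hs⟩ : Spor.Fi24') = p * orderOf h := by
  rw [Subgroup.orderOf_mk, F.ord_el hc]

theorem o35 : ∃ x : Spor.Fi24', orderOf x = 35 :=
  ⟨_, (exists_el fr5 (h := a7) (by rw [ord_a7]; norm_num) sg_a7).trans (by rw [ord_a7])⟩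

theorem o45 : ∃ x : Spor.Fi24', orderOf x = 45 :=
  ⟨_, (exists_el fr5 (h := a9) (by rw [ord_a9]; norm_num) sg_a9).trans (by rw [ord_a9])⟩

/-! ### The number of classes -/

/-- the element orders -/
def ords : Finset ℕ := {1, 2, 3, 4, 5, 6, 7, 8, 9, 10, 11, 12, 13, 14, 15, 16, 17, 18, 20, 21, 22, 23, 24, 26, 27, 28,
  29, 30, 33, 35, 36, 39, 42, 45, 60}

theorem exists_ords : ∀ n ∈ ords, ∃ g : Spor.Fi24', orderOf g = n := by
  have hfin : Finite Spor.Fi24' := H713.Spor.FiTF.finite'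
  have key : ∀ {N : ℕ}, (∃ x : Spor.Fi24', orderOf x = N) → ∀ {n : ℕ}, n ∣ N → ∃ g : Spor.Fi24', orderOf g = n := by
    rintro N ⟨x, rfl⟩ n hn
    exact Cfsg.Agent.H419.Count.exists_order_of_dvd hn
  have hd : ∀ n ∈ ords, n ∣ 16 ∨ n ∣ 17 ∨ n ∣ 22 ∨ n ∣ 23 ∨ n ∣ 24 ∨ n ∣ 26 ∨ n ∣ 27 ∨ n ∣ 28 ∨ n ∣ 29 ∨ n ∣ 33 ∨
      n ∣ 35 ∨ n ∣ 36 ∨ n ∣ 39 ∨ n ∣ 42 ∨ n ∣ 45 ∨ n ∣ 60 := by decide +kernel
  intro n hn
  rcases hd n hn with h | h | h | h | h | h | h | h | h | h | h | h | h | h | h | h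
  · exact key o16 h
  · exact key o17 h
  · exact key o22 h
  · exact key o23 h
  · exact key o24 h
  · exact key o26 h
  · exact key o27 h
  · exact key o28 h
  · exact key o29 h
  · exact key o33 h
  · exact key o35 h
  · exact key o36 h
  · exact key o39 h
  · exact key o42 h
  · exact key o45 h
  · exact key o60 h

theorem le_classes : 36 ≤ Nat.card (ConjClasses Spor.Fi24') := by
  have hfin : Finite Spor.Fi24' := H713.Spor.FiTF.finite'
  obtain ⟨t, a, b, P, ht, htab⟩ := H713.Spor.FiTF.exists_pair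
  have hn : ¬ IsConj t CTwoTab.FiTF.z0 := by
    intro h
    have h1 : 11 ∣ Nat.card (centralizer ({t} : Set Spor.Fi24')) :=
      (show 11 ∣ 2 * 64561751654400 by norm_num).trans (H713.Spor.FiTF.dvd_pair P htab)
    rw [← Cfsg.Agent.Blocks.SylowIn.card_centralizer_of_isConj h] at h1
    exact H713.Spor.FiTF.not_dvd_z0 (by norm_num) h1
  have := Cfsg.Agent.H419.Count.card_orders_succ_le ords exists_ords hn (by rw [ht, H713.Spor.FiTF.orderOf_z0])
  have h2 : ords.card = 35 := by decide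
  omega

/-! ### The rows -/

theorem vz35 : ∃ x : Spor.Fi24', VZ Spor.Fi24' x ∧ orderOf x = 35 := by
  refine ⟨_, fr5.vz (h := a7) (by rw [ord_a7]; norm_num) sg_a7 card_a7 (u := swap 7 8) (by decide +kernel)
    (by decide +kernel) (by have := le_classes; omega), ?_⟩
  rw [exists_el fr5 (by rw [ord_a7]; norm_num) sg_a7, ord_a7]

theorem vz30 : ∃ x : Spor.Fi24', VZ Spor.Fi24' x ∧ orderOf x = 30 := by
  refine ⟨_, fr5.vz (h := a6) (by rw [ord_a6]; norm_num) sg_a6 card_a6 (u := swap 6 7) (by decide +kernel)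
    (by decide +kernel) (by have := le_classes; omega), ?_⟩
  rw [exists_el fr5 (by rw [ord_a6]; norm_num) sg_a6, ord_a6]

theorem vz28 : ∃ x : Spor.Fi24', VZ Spor.Fi24' x ∧ orderOf x = 28 := by
  refine ⟨_, fr7.vz (h := b4) (by rw [ord_b4]; norm_num) sg_b4 card_b4 (u := swap 4 5) (by decide +kernel)
    (by decide +kernel) (by have := le_classes; omega), ?_⟩
  rw [exists_el fr7 (by rw [ord_b4]; norm_num) sg_b4, ord_b4]

theorem two_fi24_5 {K : Type u} [Group K] (h : Spor.IsoFi24' K) : H387.VO.TwoVan 5 K := by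
  obtain ⟨e⟩ := h
  obtain ⟨x, hx, hxo⟩ := vz35
  obtain ⟨y, hy, hyo⟩ := vz30
  exact (H387.VO.TwoVan.of_order (p := 5) (by rw [hxo]; norm_num) (by rw [hyo]; norm_num) hx hy
    (by rw [hxo, hyo]; norm_num)).mulEquiv e.symm

theorem two_fi24_7 {K : Type u} [Group K] (h : Spor.IsoFi24' K) : H387.VO.TwoVan 7 K := by
  obtain ⟨e⟩ := h
  obtain ⟨x, hx, hxo⟩ := vz35
  obtain ⟨y, hy, hyo⟩ := vz28
  exact (H387.VO.TwoVan.of_order (p := 7) (by rw [hxo]; norm_num) (by rw [hyo]; norm_num) hx hy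
    (by rw [hxo, hyo]; norm_num)).mulEquiv e.symm

end Cfsg.Agent.H828.FiVan
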