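import Cfsg.Agent.H828.FiVanTool
import Cfsg.Agent.H713.Spor.FiTF
import Cfsg.Agent.H843.Pat

/-!
# `Fi₂₄'`: element orders (helper828, kernel checks with words)

* `exists_order` : there are elements of order 16, 17, 22, 23, 24, 26, 27, 28, 29, 33, 36, 39, 42, 60 in `Fi₂₄'`.
-/

set_option autoImplicit false
set_option maxRecDepth 100000
set_option Elab.async false
set_option linter.constructorNameAsVariable false

namespace Cfsg.Agent.H828.FiVan

open Cfsg Cfsg.Spor Cfsg.Agent.Lib.PermNet Cfsg.Agent.Lib.PermNetPt Cfsg.Agent.Fischer.Fi24RepDef Cfsg.Agent.Fischer.Fi24Rep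
open Cfsg.Agent.KFacts.FiTF.FixMask Cfsg.Agent.H843.Pat
open Cfsg.Agent.Fischer.Fi24Final (sgn)
open Cfsg.Agent.Fischer.Fi24Spider (word_append word_cons word_nil)
open Cfsg.Spor.Fi24 (Gen)

/-- a point moved by a power of the word -/
theorem pow_ne {w : List Gen} {e p : ℕ} (h : Nat.beq (winv (nw (rep e w) false) p) p = false) : word w ^ e ≠ 1 := by
  intro h1
  rw [winv_word, word_rep, h1, inv_one, map_one] at h
  simp at h

theorem pow_eq {w : List Gen} {n : ℕ} (h : chkEq (rep n w) [] = true) : word w ^ n = 1 := by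
  have h1 := word_eq_of h
  rw [word_rep, word_nil] at h1
  exact h1

theorem sgn_word (w : List Gen) (h : Even w.length) : sgn (word w) = 1 := by
  have h1 : ∀ l : List Gen, sgn (word l) = (-1) ^ l.length := by
    intro l
    induction l with
    | nil => rw [word_nil, map_one]; rfl
    | cons x l ih =>
      rw [word_cons, map_mul, ih, Cfsg.Agent.Fischer.Fi24Final.sgn_gen, List.length_cons, pow_succ']
  rw [h1, h.neg_one_pow]

theorem mem_word {w : List Gen} (h : Even w.length) : word w ∈ commutator Fi24 := by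
  rw [← Cfsg.Agent.Fischer.Fi24Final.ker_sgn, MonoidHom.mem_ker, sgn_word w h]

theorem exists_of_word {w : List Gen} {n : ℕ} (hn : 0 < n) (he : Even w.length) (h1 : chkEq (rep n w) [] = true)
    (h2 : ∀ q : ℕ, q.Prime → q ∣ n → word w ^ (n / q) ≠ 1) : ∃ x : Spor.Fi24', orderOf x = n := by
  refine ⟨⟨word w, mem_word he⟩, ?_⟩
  rw [Subgroup.orderOf_mk]
  exact orderOf_eq_of_pow_and_pow_div_prime hn (pow_eq h1) h2

def v16 : List Gen := [.i, .h, .f, .e, .a, .c, .d, .a, .j, .g, .c, .b, .c, .e, .d, .c, .i, .e, .h, .d, .e, .d, .a, .j]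

theorem pw16 : chkEq (rep 16 v16) [] = true := by decide +kernel
theorem ne16_2 : Nat.beq (winv (nw (rep 8 v16) false) 307872) 307872 = false := by decide +kernel
theorem o16 : ∃ x : Spor.Fi24', orderOf x = 16 := by
  refine exists_of_word (w := v16) (by norm_num) (by decide) pw16 ?_
  intro q hq hd
  have hle : q ≤ 16 := Nat.le_of_dvd (by norm_num) hd
  have key : ∀ q ∈ Finset.range 17, q.Prime → q ∣ 16 → q = 2 := by decide +kernel
  rw [key q (Finset.mem_range.2 (by omega)) hq hd]
  exact pow_ne ne16_2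

def v17 : List Gen := [.e, .k, .l, .d, .g, .f, .c, .a, .b, .h]

theorem pw17 : chkEq (rep 17 v17) [] = true := by decide +kernel
theorem ne17_17 : Nat.beq (winv (nw (rep 1 v17) false) 0) 0 = false := by decide +kernel
theorem o17 : ∃ x : Spor.Fi24', orderOf x = 17 := by
  refine exists_of_word (w := v17) (by norm_num) (by decide) pw17 ?_
  intro q hq hd
  have hle : q ≤ 17 := Nat.le_of_dvd (by norm_num) hd
  have key : ∀ q ∈ Finset.range 18, q.Prime → q ∣ 17 → q = 17 := by decide +kernel
  rw [key q (Finset.mem_range.2 (by omega)) hq hd]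
  exact pow_ne ne17_17

def v22 : List Gen := [.g, .f, .l, .h, .b, .c, .d, .i, .h, .a, .e, .d]

theorem pw22 : chkEq (rep 22 v22) [] = true := by decide +kernel
theorem ne22_2 : Nat.beq (winv (nw (rep 11 v22) false) 307872) 307872 = false := by decide +kernel
theorem ne22_11 : Nat.beq (winv (nw (rep 2 v22) false) 307872) 307872 = false := by decide +kernel
theorem o22 : ∃ x : Spor.Fi24', orderOf x = 22 := by
  refine exists_of_word (w := v22) (by norm_num) (by decide) pw22 ?_
  intro q hq hd
  have hle : q ≤ 22 := Nat.le_of_dvd (by norm_num) hd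
  have key : ∀ q ∈ Finset.range 23, q.Prime → q ∣ 22 → q = 2 ∨ q = 11 := by decide +kernel
  rcases key q (Finset.mem_range.2 (by omega)) hq hd with rfl | rfl
  · exact pow_ne ne22_2
  · exact pow_ne ne22_11

def v23 : List Gen := [.c, .b, .l, .e, .h, .f, .c, .d, .e, .k, .c, .b, .f, .g, .a, .i, .j, .h, .k, .j, .a, .d]

theorem pw23 : chkEq (rep 23 v23) [] = true := by decide +kernel
theorem ne23_23 : Nat.beq (winv (nw (rep 1 v23) false) 0) 0 = false := by decide +kernel
theorem o23 : ∃ x : Spor.Fi24', orderOf x = 23 := by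
  refine exists_of_word (w := v23) (by norm_num) (by decide) pw23 ?_
  intro q hq hd
  have hle : q ≤ 23 := Nat.le_of_dvd (by norm_num) hd
  have key : ∀ q ∈ Finset.range 24, q.Prime → q ∣ 23 → q = 23 := by decide +kernel
  rw [key q (Finset.mem_range.2 (by omega)) hq hd]
  exact pow_ne ne23_23

def v24 : List Gen := [.b, .d, .l, .c, .k, .e, .h, .j]

theorem pw24 : chkEq (rep 24 v24) [] = true := by decide +kernel
theorem ne24_2 : Nat.beq (winv (nw (rep 12 v24) false) 1) 1 = false := by decide +kernel
theorem ne24_3 : Nat.beq (winv (nw (rep 8 v24) false) 0) 0 = false := by decide +kernel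
theorem o24 : ∃ x : Spor.Fi24', orderOf x = 24 := by
  refine exists_of_word (w := v24) (by norm_num) (by decide) pw24 ?_
  intro q hq hd
  have hle : q ≤ 24 := Nat.le_of_dvd (by norm_num) hd
  have key : ∀ q ∈ Finset.range 25, q.Prime → q ∣ 24 → q = 2 ∨ q = 3 := by decide +kernel
  rcases key q (Finset.mem_range.2 (by omega)) hq hd with rfl | rfl
  · exact pow_ne ne24_2
  · exact pow_ne ne24_3

def v26 : List Gen := [.a, .f, .i, .j, .h, .l, .e, .c, .b, .d]

theorem pw26 : chkEq (rep 26 v26) [] = true := by decide +kernel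
theorem ne26_2 : Nat.beq (winv (nw (rep 13 v26) false) 307872) 307872 = false := by decide +kernel
theorem ne26_13 : Nat.beq (winv (nw (rep 2 v26) false) 307872) 307872 = false := by decide +kernel
theorem o26 : ∃ x : Spor.Fi24', orderOf x = 26 := by
  refine exists_of_word (w := v26) (by norm_num) (by decide) pw26 ?_
  intro q hq hd
  have hle : q ≤ 26 := Nat.le_of_dvd (by norm_num) hd
  have key : ∀ q ∈ Finset.range 27, q.Prime → q ∣ 26 → q = 2 ∨ q = 13 := by decide +kernel
  rcases key q (Finset.mem_range.2 (by omega)) hq hd with rfl | rfl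
  · exact pow_ne ne26_2
  · exact pow_ne ne26_13

def v27 : List Gen := [.k, .h, .c, .f, .g, .d, .j, .b, .l, .j, .a, .e, .h, .f, .c, .d, .h, .c, .j, .i, .k, .f, .b, .a]

theorem pw27 : chkEq (rep 27 v27) [] = true := by decide +kernel
theorem ne27_3 : Nat.beq (winv (nw (rep 9 v27) false) 0) 0 = false := by decide +kernel
theorem o27 : ∃ x : Spor.Fi24', orderOf x = 27 := by
  refine exists_of_word (w := v27) (by norm_num) (by decide) pw27 ?_
  intro q hq hd
  have hle : q ≤ 27 := Nat.le_of_dvd (by norm_num) hd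
  have key : ∀ q ∈ Finset.range 28, q.Prime → q ∣ 27 → q = 3 := by decide +kernel
  rw [key q (Finset.mem_range.2 (by omega)) hq hd]
  exact pow_ne ne27_3

def v28 : List Gen := [.a, .d, .j, .f, .c, .l, .g, .k, .b, .i]

theorem pw28 : chkEq (rep 28 v28) [] = true := by decide +kernel
theorem ne28_2 : Nat.beq (winv (nw (rep 14 v28) false) 3) 3 = false := by decide +kernel
theorem ne28_7 : Nat.beq (winv (nw (rep 4 v28) false) 0) 0 = false := by decide +kernel
theorem o28 : ∃ x : Spor.Fi24', orderOf x = 28 := by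
  refine exists_of_word (w := v28) (by norm_num) (by decide) pw28 ?_
  intro q hq hd
  have hle : q ≤ 28 := Nat.le_of_dvd (by norm_num) hd
  have key : ∀ q ∈ Finset.range 29, q.Prime → q ∣ 28 → q = 2 ∨ q = 7 := by decide +kernel
  rcases key q (Finset.mem_range.2 (by omega)) hq hd with rfl | rfl
  · exact pow_ne ne28_2
  · exact pow_ne ne28_7

def v29 : List Gen := [.k, .a, .e, .f, .j, .l, .d, .c, .e, .h, .g, .l, .i, .b, .a, .f, .l, .d, .l, .c, .b, .h]

theorem pw29 : chkEq (rep 29 v29) [] = true := by decide +kernel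
theorem ne29_29 : Nat.beq (winv (nw (rep 1 v29) false) 0) 0 = false := by decide +kernel
theorem o29 : ∃ x : Spor.Fi24', orderOf x = 29 := by
  refine exists_of_word (w := v29) (by norm_num) (by decide) pw29 ?_
  intro q hq hd
  have hle : q ≤ 29 := Nat.le_of_dvd (by norm_num) hd
  have key : ∀ q ∈ Finset.range 30, q.Prime → q ∣ 29 → q = 29 := by decide +kernel
  rw [key q (Finset.mem_range.2 (by omega)) hq hd]
  exact pow_ne ne29_29

def v33 : List Gen := [.j, .l, .b, .c, .i, .h, .f, .e, .g, .k, .a, .d]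

theorem pw33 : chkEq (rep 33 v33) [] = true := by decide +kernel
theorem ne33_3 : Nat.beq (winv (nw (rep 11 v33) false) 0) 0 = false := by decide +kernel
theorem ne33_11 : Nat.beq (winv (nw (rep 3 v33) false) 0) 0 = false := by decide +kernel
theorem o33 : ∃ x : Spor.Fi24', orderOf x = 33 := by
  refine exists_of_word (w := v33) (by norm_num) (by decide) pw33 ?_
  intro q hq hd
  have hle : q ≤ 33 := Nat.le_of_dvd (by norm_num) hd
  have key : ∀ q ∈ Finset.range 34, q.Prime → q ∣ 33 → q = 3 ∨ q = 11 := by decide +kernel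
  rcases key q (Finset.mem_range.2 (by omega)) hq hd with rfl | rfl
  · exact pow_ne ne33_3
  · exact pow_ne ne33_11

def v36 : List Gen := [.f, .e, .h, .i, .c, .g, .a, .d, .l, .k]

theorem pw36 : chkEq (rep 36 v36) [] = true := by decide +kernel
theorem ne36_2 : Nat.beq (winv (nw (rep 18 v36) false) 0) 0 = false := by decide +kernel
theorem ne36_3 : Nat.beq (winv (nw (rep 12 v36) false) 193) 193 = false := by decide +kernel
theorem o36 : ∃ x : Spor.Fi24', orderOf x = 36 := by
  refine exists_of_word (w := v36) (by norm_num) (by decide) pw36 ?_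
  intro q hq hd
  have hle : q ≤ 36 := Nat.le_of_dvd (by norm_num) hd
  have key : ∀ q ∈ Finset.range 37, q.Prime → q ∣ 36 → q = 2 ∨ q = 3 := by decide +kernel
  rcases key q (Finset.mem_range.2 (by omega)) hq hd with rfl | rfl
  · exact pow_ne ne36_2
  · exact pow_ne ne36_3

def v39 : List Gen := [.b, .i, .k, .l, .d, .g, .e, .c, .f, .h]

theorem pw39 : chkEq (rep 39 v39) [] = true := by decide +kernel
theorem ne39_3 : Nat.beq (winv (nw (rep 13 v39) false) 0) 0 = false := by decide +kernel
theorem ne39_13 : Nat.beq (winv (nw (rep 3 v39) false) 1) 1 = false := by decide +kernel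
theorem o39 : ∃ x : Spor.Fi24', orderOf x = 39 := by
  refine exists_of_word (w := v39) (by norm_num) (by decide) pw39 ?_
  intro q hq hd
  have hle : q ≤ 39 := Nat.le_of_dvd (by norm_num) hd
  have key : ∀ q ∈ Finset.range 40, q.Prime → q ∣ 39 → q = 3 ∨ q = 13 := by decide +kernel
  rcases key q (Finset.mem_range.2 (by omega)) hq hd with rfl | rfl
  · exact pow_ne ne39_3
  · exact pow_ne ne39_13

def v42 : List Gen := [.d, .h, .c, .d, .b, .a, .l, .f, .k, .g, .c, .e, .i, .j, .b, .h]

theorem pw42 : chkEq (rep 42 v42) [] = true := by decide +kernel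
theorem ne42_2 : Nat.beq (winv (nw (rep 21 v42) false) 0) 0 = false := by decide +kernel
theorem ne42_3 : Nat.beq (winv (nw (rep 14 v42) false) 0) 0 = false := by decide +kernel
theorem ne42_7 : Nat.beq (winv (nw (rep 6 v42) false) 0) 0 = false := by decide +kernel
theorem o42 : ∃ x : Spor.Fi24', orderOf x = 42 := by
  refine exists_of_word (w := v42) (by norm_num) (by decide) pw42 ?_
  intro q hq hd
  have hle : q ≤ 42 := Nat.le_of_dvd (by norm_num) hd
  have key : ∀ q ∈ Finset.range 43, q.Prime → q ∣ 42 → q = 2 ∨ q = 3 ∨ q = 7 := by decide +kernel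
  rcases key q (Finset.mem_range.2 (by omega)) hq hd with rfl | rfl | rfl
  · exact pow_ne ne42_2
  · exact pow_ne ne42_3
  · exact pow_ne ne42_7

def v60 : List Gen := [.b, .f, .g, .e, .c, .l, .i, .a, .h, .j]

theorem pw60 : chkEq (rep 60 v60) [] = true := by decide +kernel
theorem ne60_2 : Nat.beq (winv (nw (rep 30 v60) false) 307872) 307872 = false := by decide +kernel
theorem ne60_3 : Nat.beq (winv (nw (rep 20 v60) false) 2914) 2914 = false := by decide +kernel
theorem ne60_5 : Nat.beq (winv (nw (rep 12 v60) false) 2914) 2914 = false := by decide +kernel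
theorem o60 : ∃ x : Spor.Fi24', orderOf x = 60 := by
  refine exists_of_word (w := v60) (by norm_num) (by decide) pw60 ?_
  intro q hq hd
  have hle : q ≤ 60 := Nat.le_of_dvd (by norm_num) hd
  have key : ∀ q ∈ Finset.range 61, q.Prime → q ∣ 60 → q = 2 ∨ q = 3 ∨ q = 5 := by decide +kernel
  rcases key q (Finset.mem_range.2 (by omega)) hq hd with rfl | rfl | rfl
  · exact pow_ne ne60_2
  · exact pow_ne ne60_3
  · exact pow_ne ne60_5

end Cfsg.Agent.H828.FiVan
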