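import Cfsg.Agent.H842.SevenSyl
import Cfsg.Agent.H841.Phi
import Cfsg.Agent.H710.VanCount

/-!
# `Fi₂₄`: elements `y · Φ(h)` with `C(y) = ⟨y⟩ × Sₙ` (helper828)

* `Fr n p y Φ` : `C(y) = ⟨y⟩ × Φ(Sₙ)`, the transpositions of `Sₙ` being odd elements of `Fi₂₄`;
* `Fr.card_cent` : `|C(y Φ(h)) ∩ Fi₂₄'| ≤ p · |C_{Aₙ}(h)|`;
* `fr5 : Fr 9 5 y0 Phi`, `fr7 : Fr 7 7 y7 Psi`.
-/

set_option autoImplicit false

namespace Cfsg.Agent.H828.FiVan

open Cfsg Cfsg.Spor Equiv Subgroup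
open Cfsg.Agent.Fischer.Fi24Final (sgn sgn_gen ker_sgn)
open Cfsg.Spor.Fi24 (Gen)

/-- `C(y) = ⟨y⟩ × Φ(Sₙ)`. -/
structure Fr (n p : ℕ) (y : Fi24) (Φ : Perm (Fin n) →* Fi24) : Prop where
  inj : Function.Injective Φ
  comm : ∀ σ, Commute (Φ σ) y
  cent : ∀ g : Fi24, g * y = y * g → ∃ (i : ℕ) (σ : Perm (Fin n)), g = y ^ i * Φ σ
  prime : p.Prime
  ord : orderOf y = p
  odd2 : p ≠ 2
  odd : ∀ i j : Fin n, i ≠ j → sgn (Φ (swap i j)) = -1

namespace Fr

variable {n p : ℕ} {y : Fi24} {Φ : Perm (Fin n) →* Fi24}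

theorem sgn_Phi (F : Fr n p y Φ) (σ : Perm (Fin n)) : sgn (Φ σ) = Perm.sign σ := by
  have h : sgn.comp Φ = Perm.sign := by
    refine MonoidHom.eq_of_eqOn_dense (Perm.closure_isSwap (α := Fin n)) ?_
    rintro _ ⟨i, j, hij, rfl⟩
    show sgn (Φ (swap i j)) = Perm.sign (swap i j)
    rw [F.odd i j hij, Perm.sign_swap hij]
  exact DFunLike.congr_fun h σ

theorem sgn_y (F : Fr n p y Φ) : sgn y = 1 := by
  have h1 : (sgn y) ^ p = 1 := by rw [← map_pow, ← F.ord, pow_orderOf_eq_one, map_one]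
  rcases Int.units_eq_one_or (sgn y) with h | h
  · exact h
  · rw [h, (F.prime.odd_of_ne_two F.odd2).neg_one_pow] at h1
    exact absurd h1 (by decide)

/-- The element. -/
def el (y : Fi24) (Φ : Perm (Fin n) →* Fi24) (h : Perm (Fin n)) : Fi24 := y * Φ h

theorem sgn_el (F : Fr n p y Φ) (h : Perm (Fin n)) : sgn (el y Φ h) = Perm.sign h := by
  rw [el, map_mul, F.sgn_y, F.sgn_Phi, one_mul]

theorem mem_el (F : Fr n p y Φ) {h : Perm (Fin n)} (hs : Perm.sign h = 1) : el y Φ h ∈ commutator Fi24 := by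
  rw [← ker_sgn, MonoidHom.mem_ker, F.sgn_el, hs]

theorem ord_Phi (F : Fr n p y Φ) (h : Perm (Fin n)) : orderOf (Φ h) = orderOf h :=
  orderOf_injective Φ F.inj h

theorem ord_el (F : Fr n p y Φ) {h : Perm (Fin n)} (hc : Nat.Coprime p (orderOf h)) :
    orderOf (el y Φ h) = p * orderOf h := by
  have h1 := (F.comm h).symm.orderOf_mul_eq_mul_orderOf_of_coprime (by rwa [F.ord, F.ord_Phi])
  rw [el, h1, F.ord, F.ord_Phi]

/-- the two factors are powers of the product -/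
theorem comm_of (F : Fr n p y Φ) {h : Perm (Fin n)} (hc : Nat.Coprime p (orderOf h)) {g : Fi24}
    (hg : g * el y Φ h = el y Φ h * g) : g * y = y * g ∧ g * Φ h = Φ h * g := by
  have hcm : Commute y (Φ h) := (F.comm h).symm
  have hg' : Commute g (y * Φ h) := hg
  obtain ⟨a, -, ha⟩ := Nat.exists_mul_mod_eq_one_of_coprime hc.symm F.prime.one_lt
  have h1 : (y * Φ h) ^ (orderOf h * a) = y := by
    rw [hcm.mul_pow, pow_mul (Φ h), ← F.ord_Phi, pow_orderOf_eq_one, one_pow, mul_one, F.ord_Phi,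
      ← pow_mod_orderOf, F.ord, ha, pow_one]
  have h2 : Commute g y := by
    have := hg'.pow_right (orderOf h * a)
    rwa [h1] at this
  have h3 : Commute g (Φ h) := by
    have := h2.inv_right.mul_right hg'
    rwa [inv_mul_cancel_left] at this
  exact ⟨h2, h3⟩

theorem exists_of (F : Fr n p y Φ) {h : Perm (Fin n)} (hc : Nat.Coprime p (orderOf h)) {g : Fi24}
    (hg : g * el y Φ h = el y Φ h * g) : ∃ (i : Fin p) (σ : Perm (Fin n)), σ * h = h * σ ∧ g = y ^ (i : ℕ) * Φ σ := by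
  obtain ⟨h1, h2⟩ := F.comm_of hc hg
  obtain ⟨i, σ, rfl⟩ := F.cent g h1
  refine ⟨⟨i % p, Nat.mod_lt _ F.prime.pos⟩, σ, ?_, ?_⟩
  · apply F.inj
    rw [map_mul, map_mul]
    have h3 : Commute (y ^ i) (Φ h) := (F.comm h).symm.pow_left i
    have h4 : Commute (y ^ i * Φ σ) (Φ h) := h2
    have h5 := h3.inv_left.mul_left h4
    rw [inv_mul_cancel_left] at h5
    exact h5.eq
  · have := pow_mod_orderOf y i
    rw [F.ord] at this
    show _ = y ^ (i % p) * Φ σ
    rw [this]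

/-- The order of the centralizer in `Aₙ`. -/
theorem card_even {h : Perm (Fin n)} {m : ℕ} (hm : Nat.card (centralizer ({h} : Set (Perm (Fin n)))) = 2 * m)
    {u : Perm (Fin n)} (hu : u * h = h * u) (hus : Perm.sign u = -1) :
    Nat.card {σ : Perm (Fin n) // σ * h = h * σ ∧ Perm.sign σ = 1} = m := by
  let C := centralizer ({h} : Set (Perm (Fin n)))
  let f : C →* ℤˣ := Perm.sign.comp C.subtype
  have h1 : f.range = ⊤ := by
    rw [eq_top_iff]
    rintro x -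
    rcases Int.units_eq_one_or x with rfl | rfl
    · exact one_mem _
    · exact ⟨⟨u, mem_centralizer_singleton_iff.2 hu⟩, hus⟩
  have h2 : f.ker.index = 2 := by
    rw [index_ker, h1, card_top, Nat.card_eq_fintype_card]; rfl
  have h3 := f.ker.card_mul_index
  rw [h2, hm] at h3
  have h4 : Nat.card {σ : Perm (Fin n) // σ * h = h * σ ∧ Perm.sign σ = 1} = Nat.card f.ker := by
    refine Nat.card_congr
      { toFun := fun x => ⟨⟨x.1, mem_centralizer_singleton_iff.2 x.2.1⟩, x.2.2⟩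
        invFun := fun x => ⟨x.1.1, mem_centralizer_singleton_iff.1 x.1.2, x.2⟩
        left_inv := fun _ => rfl
        right_inv := fun _ => rfl }
  omega

/-- **The order of the centralizer of `y Φ(h)` in `Fi₂₄'`.** -/
theorem card_cent (F : Fr n p y Φ) {h : Perm (Fin n)} (hc : Nat.Coprime p (orderOf h)) (hs : Perm.sign h = 1)
    {m : ℕ} (hm : Nat.card (centralizer ({h} : Set (Perm (Fin n)))) = 2 * m)
    {u : Perm (Fin n)} (hu : u * h = h * u) (hus : Perm.sign u = -1) :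
    Nat.card (centralizer ({(⟨el y Φ h, F.mem_el hs⟩ : Spor.Fi24')} : Set Spor.Fi24')) ≤ p * m := by
  have hpm : Nat.card (Fin p × {σ : Perm (Fin n) // σ * h = h * σ ∧ Perm.sign σ = 1}) = p * m := by
    rw [Nat.card_prod, Nat.card_fin, card_even hm hu hus]
  rw [← hpm]
  have hex : ∀ g : centralizer ({(⟨el y Φ h, F.mem_el hs⟩ : Spor.Fi24')} : Set Spor.Fi24'),
      ∃ (i : Fin p) (σ : {σ : Perm (Fin n) // σ * h = h * σ ∧ Perm.sign σ = 1}),
        ((g : Spor.Fi24') : Fi24) = y ^ (i : ℕ) * Φ σ := by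
    intro g
    obtain ⟨i, σ, h1, h2⟩ := F.exists_of hc (congrArg Subtype.val (mem_centralizer_singleton_iff.1 g.2))
    refine ⟨i, ⟨σ, h1, ?_⟩, h2⟩
    rw [← F.sgn_Phi]
    have h3 : sgn ((g : Spor.Fi24') : Fi24) = 1 := by
      have h4 : ((g : Spor.Fi24') : Fi24) ∈ sgn.ker := by
        rw [ker_sgn]
        exact (g : Spor.Fi24').2
      exact h4
    rw [h2, map_mul, map_pow, F.sgn_y, one_pow, one_mul] at h3
    exact h3
  choose a b hab using hex
  refine Nat.card_le_card_of_injective (fun g => (a g, b g)) ?_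
  intro g g' hgg
  have e1 : a g = a g' := congrArg Prod.fst hgg
  have e2 : b g = b g' := congrArg Prod.snd hgg
  apply Subtype.ext
  apply Subtype.ext
  rw [hab, hab, e1, e2]

end Fr

open Cfsg.Agent.LThreeFi24.SNine (y0)
open Cfsg.Agent.H841 in
theorem fr5 : Fr 9 5 y0 Cfsg.Agent.H841.Five.Phi where
  inj := Cfsg.Agent.H841.Five.Phi_injective
  comm := Cfsg.Agent.H841.Five.Phi_comm_y0
  cent g hg := by
    obtain ⟨i, σ, -, -, h⟩ := Cfsg.Agent.H841.Five.exists_of_comm hg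
    exact ⟨i, σ, h⟩
  prime := by norm_num
  ord := Cfsg.Agent.LThreeFi24.FiveConj.orderOf_y0
  odd2 := by norm_num
  odd i j hij := Cfsg.Agent.R08.FiTwentyFour.sgn_L (Cfsg.Agent.H841.Five.Phi_swap_mem_L hij)

theorem fr7 : Fr 7 7 Cfsg.Agent.H842.Seven.y7 Cfsg.Agent.H842.Seven.Psi where
  inj := Cfsg.Agent.H842.Seven.Psi_injective
  comm := Cfsg.Agent.H842.Seven.y7_Psi
  cent g hg := Cfsg.Agent.H842.Seven.exists_of_comm7 hg
  prime := by norm_num
  ord := by
    have : Fact (Nat.Prime 7) := ⟨by norm_num⟩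
    exact orderOf_eq_prime Cfsg.Agent.H842.SevenSyl.y7_pow Cfsg.Agent.H842.SevenSyl.y7_ne
  odd2 := by norm_num
  odd i j hij := Cfsg.Agent.R08.FiTwentyFour.sgn_L (Cfsg.Agent.H842.Seven.Psi_mem_L hij)

end Cfsg.Agent.H828.FiVan
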