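import Cfsg.Agent.H343.Blk
import Cfsg.Agent.H343.WitLin
import Cfsg.Agent.LieClassical.OmegaReindex

/-!
# Orthogonal decompositions along linear maps (helper828)

`LSum Q Q₁ Q₂` : the space of `Q` is the orthogonal sum of the spaces of `Q₁` and `Q₂` (given by linear maps);
`LSum.pair` : the commuting pair `Ω(Q₁), Ω(Q₂) → Ω(Q)`; `LSum.ppair` : the same in `PΩ(Q)`.
-/

set_option autoImplicit false
set_option linter.unusedSectionVars false

namespace Cfsg.Agent.H828.OrthTool

open Matrix Cfsg Cfsg.Agent.H343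

variable {F : Type*} [Field F] {ι κ lam : Type} [Fintype ι] [DecidableEq ι] [Fintype κ] [DecidableEq κ]
  [Fintype lam] [DecidableEq lam]

/-- an orthogonal decomposition given by linear maps -/
structure LSum (Q : (κ → F) → F) (Q₁ : (ι → F) → F) (Q₂ : (lam → F) → F) where
  /-- first inclusion -/
  E : (ι → F) →ₗ[F] (κ → F)
  /-- first projection -/
  E' : (κ → F) →ₗ[F] (ι → F)
  /-- second inclusion -/
  G : (lam → F) →ₗ[F] (κ → F)
  /-- second projection -/
  G' : (κ → F) →ₗ[F] (lam → F)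
  ee : ∀ w, E' (E w) = w
  gg : ∀ w, G' (G w) = w
  eg : ∀ w, E' (G w) = 0
  ge : ∀ w, G' (E w) = 0
  sum : ∀ v, Q v = Q₁ (E' v) + Q₂ (G' v)

variable {Q : (κ → F) → F} {Q₁ : (ι → F) → F} {Q₂ : (lam → F) → F}

namespace LSum

/-- the other order -/
def swap (D : LSum Q Q₁ Q₂) : LSum Q Q₂ Q₁ where
  E := D.G
  E' := D.G'
  G := D.E
  G' := D.E'
  ee := D.gg
  gg := D.ee
  eg := D.ge
  ge := D.eg
  sum v := by rw [D.sum, add_comm]

/-- matrix of `E` -/
def mE (D : LSum Q Q₁ Q₂) : Matrix κ ι F := LinearMap.toMatrix' D.E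

/-- matrix of `E'` -/
def mE' (D : LSum Q Q₁ Q₂) : Matrix ι κ F := LinearMap.toMatrix' D.E'

theorem mee (D : LSum Q Q₁ Q₂) : D.mE' * D.mE = 1 := by
  rw [mE, mE', ← LinearMap.toMatrix'_comp, ← LinearMap.toMatrix'_id]
  congr 1
  ext1 w
  exact LinearMap.ext fun x => D.ee _

theorem mgg (D : LSum Q Q₁ Q₂) : D.swap.mE' * D.swap.mE = 1 := D.swap.mee

theorem meg (D : LSum Q Q₁ Q₂) : D.mE' * D.swap.mE = 0 := by
  rw [mE, mE', ← LinearMap.toMatrix'_comp]
  have : D.E' ∘ₗ D.swap.E = 0 := LinearMap.ext fun x => D.eg x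
  rw [this, map_zero]

/-- the extension of a matrix by the identity -/
def ext (D : LSum Q Q₁ Q₂) (A : Matrix ι ι F) : Matrix κ κ F := 1 + D.mE * (A - 1) * D.mE'

theorem ext_one (D : LSum Q Q₁ Q₂) : D.ext 1 = 1 := by
  rw [ext, sub_self, Matrix.mul_zero, Matrix.zero_mul, add_zero]

theorem ext_mul (D : LSum Q Q₁ Q₂) (A B : Matrix ι ι F) : D.ext (A * B) = D.ext A * D.ext B := by
  have h1 : D.mE * (A - 1) * D.mE' * (D.mE * (B - 1) * D.mE') = D.mE * ((A - 1) * (B - 1)) * D.mE' := by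
    rw [show D.mE * (A - 1) * D.mE' * (D.mE * (B - 1) * D.mE') =
      D.mE * (A - 1) * (D.mE' * D.mE) * (B - 1) * D.mE' by simp only [Matrix.mul_assoc], D.mee, Matrix.mul_one]
    simp only [Matrix.mul_assoc]
  unfold ext
  rw [Matrix.add_mul, Matrix.mul_add, Matrix.mul_add, h1, Matrix.one_mul, Matrix.one_mul, Matrix.mul_one,
    show A * B - 1 = (A - 1) + (B - 1) + (A - 1) * (B - 1) by noncomm_ring, Matrix.mul_add, Matrix.mul_add,
    Matrix.add_mul, Matrix.add_mul]
  abel

theorem ext_inj (D : LSum Q Q₁ Q₂) {A B : Matrix ι ι F} (h : D.ext A = D.ext B) : A = B := by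
  unfold ext at h
  have h1 : D.mE' * (D.mE * (A - 1) * D.mE') * D.mE = D.mE' * (D.mE * (B - 1) * D.mE') * D.mE := by
    rw [add_left_cancel h]
  have h2 : ∀ C : Matrix ι ι F, D.mE' * (D.mE * (C - 1) * D.mE') * D.mE = C - 1 := by
    intro C
    rw [show D.mE' * (D.mE * (C - 1) * D.mE') * D.mE = (D.mE' * D.mE) * (C - 1) * (D.mE' * D.mE) by
      simp only [Matrix.mul_assoc], D.mee, Matrix.one_mul, Matrix.mul_one]
  rw [h2, h2] at h1
  exact sub_left_injective h1

theorem ext_comm (D : LSum Q Q₁ Q₂) (A : Matrix ι ι F) (B : Matrix lam lam F) :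
    D.ext A * D.swap.ext B = D.swap.ext B * D.ext A := by
  have h1 : D.mE * (A - 1) * D.mE' * (D.swap.mE * (B - 1) * D.swap.mE') = 0 := by
    rw [show D.mE * (A - 1) * D.mE' * (D.swap.mE * (B - 1) * D.swap.mE') =
      D.mE * (A - 1) * (D.mE' * D.swap.mE) * (B - 1) * D.swap.mE' by simp only [Matrix.mul_assoc], D.meg]
    simp
  have h2 : D.swap.mE * (B - 1) * D.swap.mE' * (D.mE * (A - 1) * D.mE') = 0 := by
    rw [show D.swap.mE * (B - 1) * D.swap.mE' * (D.mE * (A - 1) * D.mE') =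
      D.swap.mE * (B - 1) * (D.swap.mE' * D.swap.swap.mE) * (A - 1) * D.mE' by
        simp only [Matrix.mul_assoc]; rfl, D.swap.meg]
    simp
  unfold ext
  rw [Matrix.add_mul, Matrix.mul_add, Matrix.mul_add, h1, Matrix.add_mul (1 : Matrix κ κ F), Matrix.mul_add,
    Matrix.mul_add, h2]
  simp only [Matrix.one_mul, Matrix.mul_one, add_zero]
  abel

theorem ext_mulVec (D : LSum Q Q₁ Q₂) (A : Matrix ι ι F) (v : κ → F) :
    D.ext A *ᵥ v = v + D.E (A *ᵥ D.E' v - D.E' v) := by
  unfold ext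
  rw [Matrix.add_mulVec, Matrix.one_mulVec, ← Matrix.mulVec_mulVec, ← Matrix.mulVec_mulVec, mE, mE',
    LinearMap.toMatrix'_mulVec, LinearMap.toMatrix'_mulVec, Matrix.sub_mulVec, Matrix.one_mulVec]

/-- isometries of the block -/
def iso (D : LSum Q Q₁ Q₂) : isometryGroup F Q₁ →* isometryGroup F Q where
  toFun g := ⟨⟨D.ext g.1.1, D.ext (g.1⁻¹ : GL ι F).1, by
      rw [← D.ext_mul, ← Units.val_mul, mul_inv_cancel, Units.val_one, D.ext_one], by
      rw [← D.ext_mul, ← Units.val_mul, inv_mul_cancel, Units.val_one, D.ext_one]⟩, by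
    rw [Blk.mem_iso]
    intro v
    change Q (D.ext g.1.1 *ᵥ v) = Q v
    have h1 : D.E' (D.ext g.1.1 *ᵥ v) = g.1.1 *ᵥ D.E' v := by
      rw [D.ext_mulVec, map_add, D.ee]
      abel
    have h2 : D.G' (D.ext g.1.1 *ᵥ v) = D.G' v := by
      rw [D.ext_mulVec, map_add, D.ge, add_zero]
    rw [D.sum, D.sum v, h1, h2, Blk.mem_iso.mp g.2]⟩
  map_one' := Subtype.ext (Units.ext D.ext_one)
  map_mul' g h := Subtype.ext (Units.ext (D.ext_mul g.1.1 h.1.1))

theorem iso_val (D : LSum Q Q₁ Q₂) (g : isometryGroup F Q₁) :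
    ((D.iso g : GeneralLinearGroup κ F) : Matrix κ κ F) = D.ext (g : GeneralLinearGroup ι F) := rfl

theorem iso_injective (D : LSum Q Q₁ Q₂) : Function.Injective D.iso := by
  intro g h hgh
  apply Subtype.ext
  apply Units.ext
  apply D.ext_inj
  rw [← D.iso_val, ← D.iso_val, hgh]

/-- `Omega` of the block -/
def omega (D : LSum Q Q₁ Q₂) : Omega F Q₁ →* Omega F Q :=
  (D.iso.comp (Omega F Q₁).subtype).codRestrict (Omega F Q) fun g => Blk.OrthSum.map_commutator_le D.iso g.2

theorem omega_injective (D : LSum Q Q₁ Q₂) : Function.Injective D.omega := by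
  intro g h hgh
  apply Subtype.ext
  apply D.iso_injective
  exact congrArg Subtype.val hgh

theorem iso_comm (D : LSum Q Q₁ Q₂) (a : isometryGroup F Q₁) (b : isometryGroup F Q₂) :
    D.iso a * D.swap.iso b = D.swap.iso b * D.iso a :=
  Subtype.ext (Units.ext (D.ext_comm a.1.1 b.1.1))

/-- the commuting pair -/
def pair (D : LSum Q Q₁ Q₂) : CommPair (Omega F Q₁) (Omega F Q₂) (Omega F Q) where
  f := D.omega
  g := D.swap.omega
  hf := D.omega_injective
  hg := D.swap.omega_injective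
  comm a b := Subtype.ext (D.iso_comm a.1 b.1)

/-- a central element of a block is trivial -/
theorem eq_one_of_center {QF : QuadraticForm F (κ → F)} (hQF : ⇑QF = Q)
    (hQ : (QuadraticMap.polarBilin QF).Nondegenerate) (hn : 3 ≤ Fintype.card κ)
    (hs : ∃ u : κ → F, u ≠ 0 ∧ QF u = 0) (D : LSum Q Q₁ Q₂) (j : lam) {g : Omega F Q₁}
    (hg : D.omega g ∈ Subgroup.center (Omega F Q)) : g = 1 := by
  subst hQF
  have h1 : LieClassical.OmegaCenter.omegaMat (D.omega g) = D.ext g.1.1.1 := rfl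
  have h2 : D.swap.mE' * D.ext g.1.1.1 * D.swap.mE = 1 := by
    have h5 : D.swap.mE' * D.mE = 0 := D.swap.meg
    unfold ext
    rw [Matrix.mul_add, Matrix.mul_one, ← Matrix.mul_assoc, ← Matrix.mul_assoc, h5]
    simp only [Matrix.zero_mul, add_zero]
    exact D.mgg
  have h3 : LieClassical.OmegaCenter.omegaMat (D.omega g) = 1 := by
    rcases (LieClassical.OmegaCenter.mem_center_omega_iff QF hQ hn hs (D.omega g)).mp hg with h | h
    · exact h
    · rw [← h1, h] at h2
      have h6 : (-1 : Matrix lam lam F) = 1 := by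
        have h7 : D.swap.mE' * (-1 : Matrix κ κ F) * D.swap.mE = -1 := by
          rw [Matrix.mul_neg, Matrix.mul_one, Matrix.neg_mul, D.mgg]
        exact h7.symm.trans h2
      have h4 : (-1 : F) = 1 := by
        have := congrFun (congrFun h6 j) j
        simpa using this
      rw [h]
      ext a b
      rw [Matrix.neg_apply, Matrix.one_apply]
      split
      · exact h4
      · simp
  apply D.omega_injective
  rw [map_one]
  apply Subtype.ext
  apply Subtype.ext
  apply Units.ext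
  exact h3

/-- the commuting pair of `POmega` -/
noncomputable def ppair {QF : QuadraticForm F (κ → F)} (hQF : ⇑QF = Q)
    (hQ : (QuadraticMap.polarBilin QF).Nondegenerate) (hn : 3 ≤ Fintype.card κ)
    (hs : ∃ u : κ → F, u ≠ 0 ∧ QF u = 0) (D : LSum Q Q₁ Q₂) (i : ι) (j : lam) :
    CommPair (Omega F Q₁) (Omega F Q₂) (POmega F Q) :=
  D.pair.modCenter (fun _ h => D.eq_one_of_center hQF hQ hn hs j h)
    (fun _ h => D.swap.eq_one_of_center hQF hQ hn hs i h)

end LSum

end Cfsg.Agent.H828.OrthTool
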